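import Cfsg.Agent.Suz.Group
import Cfsg.Prelude.Def_Transfer
import Mathlib.LinearAlgebra.Projectivization.Independence
import Mathlib.RingTheory.IntegralDomain

/-!
Properties of the Suzuki group: Sylow 2-subgroups, generation, form, independence.
-/

set_option autoImplicit false
set_option linter.unusedSectionVars false
set_option linter.style.haveILetI false

namespace CfsgLib.Suz

open Matrix Pointwise

variable {F : Type*} [Field F] [Fintype F] {m : ℕ}

namespace Setup

variable (A : Setup F m)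

include A

theorem T_sq (a b : F) : A.T a b * A.T a b = A.T 0 (sg m a * a) := by
  rw [A.T_mul]
  congr 1
  · linear_combination a * A.two0
  · linear_combination b * A.two0

theorem T_sq_eq_one {a b : F} : A.T a b * A.T a b = 1 ↔ a = 0 := by
  rw [A.T_sq, ← A.T_zero]
  constructor
  · intro h
    rcases mul_eq_zero.1 (A.T_inj h).2 with h | h
    · exact A.sg_eq_zero h
    · exact h
  · intro h
    simp [h]

/-- parametrisation of the translation subgroup -/
noncomputable def uEquiv : F × F ≃ A.U :=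
  Equiv.ofBijective (fun p => ⟨A.T p.1 p.2, A.T_mem_U _ _⟩)
    ⟨fun p r h => by
      obtain ⟨h1, h2⟩ := A.T_inj (congrArg Subtype.val h)
      exact Prod.ext h1 h2,
    fun ⟨g, hg⟩ => by
      obtain ⟨a, b, rfl⟩ := A.mem_U.1 hg
      exact ⟨(a, b), rfl⟩⟩

theorem card_U : Nat.card A.U = (2 ^ (2 * m + 1)) ^ 2 := by
  rw [← Nat.card_congr A.uEquiv, Nat.card_prod, Nat.card_eq_fintype_card, A.card, sq]

/-- the translation subgroup as a Sylow subgroup -/
noncomputable def sylU : Sylow 2 (Cfsg.Sz F m) :=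
  (IsPGroup.of_card (p := 2) (n := (2 * m + 1) * 2) (by rw [A.card_U, ← pow_mul]) : IsPGroup 2 A.U).toSylow (by
    have h := A.U.card_mul_index
    rw [A.card_U, A.card_Sz, mul_assoc] at h
    rw [Nat.eq_of_mul_eq_mul_left (by positivity) h]
    have he : Even (2 ^ (2 * m + 1)) := (Nat.even_pow.2 ⟨even_two, by omega⟩)
    have h1 : ¬2 ∣ (2 ^ (2 * m + 1)) ^ 2 + 1 := by
      rw [← even_iff_two_dvd, Nat.even_add_one, not_not]
      exact Nat.even_pow.2 ⟨he, by norm_num⟩
    have h2 : ¬2 ∣ 2 ^ (2 * m + 1) - 1 := by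
      rw [← even_iff_two_dvd, Nat.even_sub Nat.one_le_two_pow]
      simp [he]
    exact Nat.Prime.not_dvd_mul Nat.prime_two h1 h2)

theorem sylU_coe : (A.sylU : Subgroup (Cfsg.Sz F m)) = A.U := rfl

theorem sylow_conj (P : Sylow 2 (Cfsg.Sz F m)) :
    ∃ g : Cfsg.Sz F m, (P : Subgroup (Cfsg.Sz F m)) = A.U.map (MulAut.conj g).toMonoidHom := by
  haveI : Fact (Nat.Prime 2) := ⟨Nat.prime_two⟩
  obtain ⟨g, rfl⟩ := MulAction.exists_smul_eq (Cfsg.Sz F m) A.sylU P
  exact ⟨g, rfl⟩

theorem mem_center_U {a b : F} : (⟨A.T a b, A.T_mem_U a b⟩ : A.U) ∈ Subgroup.center A.U ↔ a = 0 := by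
  rw [Subgroup.mem_center_iff]
  constructor
  · intro h
    have key : ∀ x : F, sg m a * x = sg m x * a := fun x => by
      have e := congrArg Subtype.val (h ⟨A.T x 0, A.T_mem_U x 0⟩)
      simp only [Subgroup.coe_mul, A.T_mul] at e
      linear_combination -(A.T_inj e).2
    have e1 : sg m a = a := by simpa [A.sg_one] using key 1
    have e2 : a * (a - 1) = 0 := by
      have := A.sg_sg a
      rw [e1, e1] at this
      linear_combination -this
    rcases mul_eq_zero.1 e2 with h0 | h0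
    · exact h0
    · obtain ⟨k, hk, -⟩ := A.exists_unit
      rw [sub_eq_zero] at h0
      subst h0
      have := key k
      rw [A.sg_one, one_mul, mul_one] at this
      exfalso
      have e3 := A.sg_sg (k : F)
      rw [← this, ← this] at e3
      have : (k : F) * ((k : F) - 1) = 0 := by linear_combination -e3
      rcases mul_eq_zero.1 this with h | h
      · exact k.ne_zero h
      · exact hk (sub_eq_zero.1 h)
  · rintro rfl ⟨g, hg⟩
    obtain ⟨x, y, rfl⟩ := A.mem_U.1 hg
    refine Subtype.ext ?_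
    simp only [Subgroup.coe_mul, A.T_mul, A.sg_zero]
    congr 1 <;> ring

theorem card_center_U : Nat.card (Subgroup.center A.U) = 2 ^ (2 * m + 1) := by
  let e : F → Subgroup.center A.U := fun b => ⟨⟨A.T 0 b, A.T_mem_U 0 b⟩, A.mem_center_U.2 rfl⟩
  have he : Function.Bijective e := by
    refine ⟨fun b b' h => (A.T_inj (congrArg (fun x => x.1.1) h)).2, ?_⟩
    rintro ⟨⟨g, hg⟩, hc⟩
    obtain ⟨a, b, rfl⟩ := A.mem_U.1 hg
    obtain rfl := A.mem_center_U.1 hc
    exact ⟨b, rfl⟩
  rw [← Nat.card_eq_of_bijective e he, Nat.card_eq_fintype_card, A.card]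

open scoped commutatorElement in
theorem commutator_U : Subgroup.center A.U = commutator A.U := by
  refine le_antisymm ?_ ?_
  · rintro ⟨g, hg⟩ hc
    obtain ⟨a, b, rfl⟩ := A.mem_U.1 hg
    obtain rfl := A.mem_center_U.1 hc
    by_cases hb : b = 0
    · subst hb
      rw [show (⟨A.T (0 : F) 0, hg⟩ : A.U) = 1 from Subtype.ext A.T_zero]
      exact one_mem _
    obtain ⟨j, hj, -⟩ := A.exists_unit
    have hne : sg m (j : F) + j ≠ 0 := fun e => by
      have e1 : sg m (j : F) = j := by linear_combination e - (j : F) * A.two0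
      have e2 := A.sg_sg (j : F)
      rw [e1, e1] at e2
      have : (j : F) * ((j : F) - 1) = 0 := by linear_combination -e2
      rcases mul_eq_zero.1 this with h | h
      · exact j.ne_zero h
      · exact hj (sub_eq_zero.1 h)
    obtain ⟨k, hk⟩ := A.u_surj (div_ne_zero hb hne)
    have hm := Subgroup.commutator_mem_commutator (G := A.U)
      (Subgroup.mem_top ⟨A.T ((k : F) * j) 0, A.T_mem_U _ _⟩) (Subgroup.mem_top ⟨A.T (k : F) 0, A.T_mem_U _ _⟩)
    rw [← commutator_def] at hm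
    convert hm using 1
    refine Subtype.ext ?_
    rw [commutatorElement_def]
    simp only [Subgroup.coe_mul, InvMemClass.coe_inv]
    have e : b = sg m (k : F) * k * (sg m (j : F) + j) := by rw [hk, div_mul_cancel₀ _ hne]
    rw [A.T_conj, A.T_inv, A.T_mul, e]
    congr 1 <;> (try simp only [A.sg_mul, A.sg_add, A.sg_zero]) <;> rw [← sub_eq_zero] <;> ring_nf <;> simp [A.two0]
  · rw [commutator_def]
    refine Subgroup.commutator_le.2 ?_
    rintro ⟨g, hg⟩ - ⟨g', hg'⟩ -
    obtain ⟨a, b, rfl⟩ := A.mem_U.1 hg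
    obtain ⟨a', b', rfl⟩ := A.mem_U.1 hg'
    rw [Subgroup.mem_center_iff]
    rintro ⟨u, hu⟩
    obtain ⟨x, y, rfl⟩ := A.mem_U.1 hu
    refine Subtype.ext ?_
    simp only [commutatorElement_def, Subgroup.coe_mul, InvMemClass.coe_inv]
    rw [A.T_conj, A.T_inv, A.T_mul, A.T_mul, A.T_mul]
    congr 1 <;> (try simp only [A.sg_add]) <;> rw [← sub_eq_zero] <;> ring_nf <;> simp [A.two0]

theorem exponent_U : Monoid.exponent A.U = 4 := by
  have h4 : Monoid.exponent A.U ∣ 4 := Monoid.exponent_dvd_of_forall_pow_eq_one fun g => by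
    obtain ⟨a, b, hab⟩ := A.mem_U.1 g.2
    refine Subtype.ext ?_
    rw [SubmonoidClass.coe_pow, hab, pow_succ, pow_succ, pow_succ, pow_one, mul_assoc, A.T_sq, A.T_sq_eq_one.2 rfl]
    rfl
  have h2 : ¬Monoid.exponent A.U ∣ 2 := fun h => by
    have e := (Monoid.exponent_dvd_iff_forall_pow_eq_one.1 h) ⟨A.T 1 0, A.T_mem_U _ _⟩
    have e' := congrArg Subtype.val e
    rw [SubmonoidClass.coe_pow, sq, OneMemClass.coe_one, A.T_sq_eq_one] at e'
    exact one_ne_zero e'
  obtain ⟨i, hi, e⟩ := (Nat.dvd_prime_pow Nat.prime_two).1 (show Monoid.exponent A.U ∣ 2 ^ 2 from h4)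
  interval_cases i
  · exact absurd (e ▸ one_dvd 2) h2
  · exact absurd (e ▸ dvd_refl 2) h2
  · exact e

theorem sylow_facts (P : Sylow 2 (Cfsg.Sz F m)) :
    Nat.card P = (2 ^ (2 * m + 1)) ^ 2 ∧ Monoid.exponent P = 4 ∧
      Subgroup.center P = commutator P ∧ Nat.card (Subgroup.center P) = 2 ^ (2 * m + 1) := by
  obtain ⟨g, hg⟩ := A.sylow_conj P
  have e : A.U ≃* P := (A.U.equivMapOfInjective _ (MulAut.conj g).injective).trans (MulEquiv.subgroupCongr hg.symm)
  have hc : (Subgroup.center A.U).map e.toMonoidHom = Subgroup.center P := by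
    ext x
    simp only [Subgroup.mem_map, Subgroup.mem_center_iff, MulEquiv.coe_toMonoidHom]
    constructor
    · rintro ⟨y, hy, rfl⟩ z
      have := congrArg e (hy (e.symm z))
      simpa using this
    · intro hx
      refine ⟨e.symm x, fun z => e.injective ?_, e.apply_symm_apply x⟩
      simpa using hx (e z)
  have hd : (commutator A.U).map e.toMonoidHom = commutator P := by
    rw [commutator_def, Subgroup.map_commutator, Subgroup.map_top_of_surjective _ e.surjective, commutator_def]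
  refine ⟨(Nat.card_congr e.toEquiv).symm.trans A.card_U, (Monoid.exponent_eq_of_mulEquiv e).symm.trans A.exponent_U,
    by rw [← hc, ← hd, A.commutator_U], ?_⟩
  rw [← hc, Subgroup.card_map_of_injective (f := e.toMonoidHom) e.injective, A.card_center_U]

theorem fixes_of_conj {u x : Cfsg.Sz F m} (hu : u ∈ A.U) (hu1 : u ≠ 1) (h : x * u * x⁻¹ ∈ A.U) :
    x • inf F m = inf F m := by
  obtain ⟨a, b, rfl⟩ := A.mem_U.1 hu
  obtain ⟨a', b', e⟩ := A.mem_U.1 h
  have h1 : A.T a' b' • (x • inf F m) = x • inf F m := by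
    rw [← e, mul_smul, mul_smul, inv_smul_smul, A.T_inf]
  rcases cases_pt (x • inf F m) with h0 | ⟨X, Y, h0⟩
  · exact h0
  · exfalso
    rw [h0, A.T_pt] at h1
    obtain ⟨ex, ey⟩ := pt_inj h1
    have ha : a' = 0 := by linear_combination ex
    subst ha
    have hb : b' = 0 := by rw [A.sg_zero] at ey; linear_combination ey
    subst hb
    rw [A.T_zero, conj_eq_one_iff] at e
    exact hu1 e

theorem not_real {a b : F} (ha : a ≠ 0) : ¬IsConj (A.T a b) (A.T a b)⁻¹ := by
  rw [isConj_iff]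
  rintro ⟨x, hx⟩
  have hu1 : A.T a b ≠ 1 := fun e => by rw [← A.T_zero] at e; exact ha (A.T_inj e).1
  have hO := A.fixes_of_conj (A.T_mem_U a b) hu1 (by rw [hx]; exact inv_mem (A.T_mem_U a b))
  obtain ⟨c, d, k, rfl⟩ := A.stab_inf hO
  rw [show A.T c d * A.H k * A.T a b * (A.T c d * A.H k)⁻¹ =
    A.T c d * (A.H k * A.T a b * (A.H k)⁻¹) * (A.T c d)⁻¹ by group, A.H_conj, A.T_conj, A.T_inv] at hx
  obtain ⟨e1, e2⟩ := A.T_inj hx
  have hk : (k : F) = 1 := mul_right_cancel₀ ha (by rw [e1, one_mul])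
  rw [hk, A.sg_one] at e2
  simp only [one_mul] at e2
  have hsa : sg m a ≠ 0 := fun e => ha (A.sg_eq_zero e)
  have eu : sg m (c / a) + c / a = 1 := by
    rw [show sg m (c / a) = sg m c / sg m a from div_pow _ _ _]
    field_simp
    linear_combination e2
  have eu2 := congrArg (sg m) eu
  rw [A.sg_add, A.sg_sg, A.sg_one] at eu2
  have h01 : c / a * (c / a - 1) = 0 := by linear_combination eu2 - eu
  rcases mul_eq_zero.1 h01 with h | h
  · rw [h, A.sg_zero, add_zero] at eu
    exact zero_ne_one eu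
  · rw [sub_eq_zero] at h
    rw [h, A.sg_one] at eu
    exact one_ne_zero (show (1 : F) = 0 by linear_combination A.two0 - eu)

theorem real_iff (P : Sylow 2 (Cfsg.Sz F m)) {g : Cfsg.Sz F m} (hg : g ∈ (P : Subgroup (Cfsg.Sz F m)))
    (h1 : g ≠ 1) : IsConj g g⁻¹ ↔ orderOf g = 2 := by
  obtain ⟨x, hx⟩ := A.sylow_conj P
  rw [hx] at hg
  obtain ⟨u, hu, rfl⟩ := Subgroup.mem_map.1 hg
  obtain ⟨a, b, rfl⟩ := A.mem_U.1 hu
  rw [MulEquiv.coe_toMonoidHom, orderOf_eq_prime_iff]
  constructor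
  · intro hc
    refine ⟨?_, h1⟩
    have ha : a = 0 := by
      by_contra ha
      refine A.not_real (b := b) ha ?_
      have := ((MulAut.conj x).symm.toMonoidHom).map_isConj hc
      rwa [MulEquiv.coe_toMonoidHom, map_inv, MulEquiv.symm_apply_apply] at this
    rw [← map_pow, sq, A.T_sq_eq_one.2 ha, map_one]
  · rintro ⟨hsq, -⟩
    rw [inv_eq_of_mul_eq_one_right (by rw [← sq]; exact hsq)]

theorem normalizer_U : Subgroup.normalizer (A.U : Set (Cfsg.Sz F m)) = MulAction.stabilizer (Cfsg.Sz F m) (inf F m) := by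
  ext x
  rw [MulAction.mem_stabilizer_iff, Subgroup.mem_normalizer_iff]
  constructor
  · intro h
    refine A.fixes_of_conj (A.T_mem_U 1 0) (fun e => ?_) ((h _).1 (A.T_mem_U 1 0))
    rw [← A.T_zero] at e
    exact one_ne_zero (A.T_inj e).1
  · intro hx u
    refine ⟨A.conj_U hx, fun h => ?_⟩
    have := A.conj_U (g := x⁻¹) (by rw [inv_smul_eq_iff, hx]) h
    simpa [mul_assoc] using this

theorem U_le_stab : A.U ≤ MulAction.stabilizer (Cfsg.Sz F m) (inf F m) := by
  intro g hg
  obtain ⟨a, b, rfl⟩ := A.mem_U.1 hg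
  exact A.T_inf a b

theorem eq_top_of_moving {M : Subgroup (Cfsg.Sz F m)} (hU : A.U ≤ M) {x : Cfsg.Sz F m} (hx : x ∈ M)
    (hxO : x • inf F m ≠ inf F m) : M = ⊤ := by
  obtain ⟨a, b, h⟩ := (cases_pt (x • inf F m)).resolve_left hxO
  have hm : ∀ p, ∃ y ∈ M, y • inf F m = p := fun p => by
    rcases cases_pt p with rfl | ⟨c, d, rfl⟩
    · exact ⟨1, one_mem M, one_smul _ _⟩
    · refine ⟨A.T c d * (A.T a b)⁻¹ * x, mul_mem (mul_mem (hU (A.T_mem_U _ _)) (inv_mem (hU (A.T_mem_U _ _)))) hx, ?_⟩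
      rw [mul_smul, mul_smul, h, inv_smul_eq_iff.2 (A.T_zero_pt a b).symm, A.T_zero_pt]
  have hle : Subgroup.normalClosure (A.U : Set (Cfsg.Sz F m)) ≤ M := by
    rw [Subgroup.normalClosure, Subgroup.closure_le]
    intro z hz
    obtain ⟨u, hu, hconj⟩ := Group.mem_conjugatesOfSet_iff.1 hz
    obtain ⟨g, rfl⟩ := isConj_iff.1 hconj
    obtain ⟨y, hy, e⟩ := hm (g • inf F m)
    have hu' : y⁻¹ * g * u * (y⁻¹ * g)⁻¹ ∈ A.U := A.conj_U (by rw [mul_smul, inv_smul_eq_iff, e]) hu
    have := mul_mem (mul_mem hy (hU hu')) (inv_mem hy)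
    simpa [mul_assoc] using this
  have hne : Subgroup.normalClosure (A.U : Set (Cfsg.Sz F m)) ≠ ⊥ := fun e => by
    have := Subgroup.subset_normalClosure (A.T_mem_U (1 : F) 0)
    rw [e, SetLike.mem_coe, Subgroup.mem_bot, ← A.T_zero] at this
    exact one_ne_zero (A.T_inj this).1
  rw [A.normal_eq_top _ hne] at hle
  exact top_le_iff.1 hle

theorem stab_coatom : IsCoatom (MulAction.stabilizer (Cfsg.Sz F m) (inf F m)) := by
  refine ⟨fun e => ?_, fun M hM => ?_⟩
  · have : A.W ∈ MulAction.stabilizer (Cfsg.Sz F m) (inf F m) := by rw [e]; exact Subgroup.mem_top _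
    rw [MulAction.mem_stabilizer_iff, A.W_inf] at this
    exact pt_ne_inf m 0 0 this
  · obtain ⟨x, hx, hx'⟩ := SetLike.exists_of_lt hM
    exact A.eq_top_of_moving (A.U_le_stab.trans hM.le) hx hx'

theorem sylow_maximal (P : Sylow 2 (Cfsg.Sz F m)) :
    IsCoatom (Subgroup.normalizer ((P : Subgroup (Cfsg.Sz F m)) : Set (Cfsg.Sz F m))) ∧
    ∀ M : Subgroup (Cfsg.Sz F m), IsCoatom M → (P : Subgroup (Cfsg.Sz F m)) ≤ M →
      M = Subgroup.normalizer ((P : Subgroup (Cfsg.Sz F m)) : Set (Cfsg.Sz F m)) := by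
  obtain ⟨x, hx⟩ := A.sylow_conj P
  let e := (MulAut.conj x).mapSubgroup
  have hn : Subgroup.normalizer ((P : Subgroup (Cfsg.Sz F m)) : Set (Cfsg.Sz F m)) =
      e (MulAction.stabilizer (Cfsg.Sz F m) (inf F m)) := by
    rw [hx, ← A.normalizer_U]
    exact (Subgroup.map_equiv_normalizer_eq A.U (MulAut.conj x)).symm
  refine ⟨hn ▸ (e.isCoatom_iff _).2 A.stab_coatom, fun M hM hPM => ?_⟩
  rw [hn, ← e.apply_symm_apply M]
  congr 1
  have hU : A.U ≤ e.symm M := e.le_symm_apply.2 (le_of_eq_of_le hx.symm hPM)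
  have hc : IsCoatom (e.symm M) := (e.symm.isCoatom_iff M).2 hM
  refine (hc.le_iff_eq A.stab_coatom.1).1 ?_ |>.symm
  intro y hy
  by_contra hy'
  exact hc.1 (A.eq_top_of_moving hU hy hy')

theorem two_gen : ∃ a b : Cfsg.Sz F m, Subgroup.closure ({a, b} : Set (Cfsg.Sz F m)) = ⊤ := by
  obtain ⟨k0, hk0⟩ := IsCyclic.exists_generator (α := Fˣ)
  refine ⟨A.H k0, A.T 1 0 * A.W, ?_⟩
  set M := Subgroup.closure ({A.H k0, A.T 1 0 * A.W} : Set (Cfsg.Sz F m))
  have hH : ∀ k, A.H k ∈ M := fun k => by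
    obtain ⟨i, hi⟩ := Subgroup.mem_zpowers_iff.1 (hk0 k)
    rw [← hi, show A.H (k0 ^ i) = A.H k0 ^ i from map_zpow A.hHom k0 i]
    exact zpow_mem (Subgroup.subset_closure (Set.mem_insert _ _)) i
  have hb : A.T 1 0 * A.W ∈ M := Subgroup.subset_closure (Set.mem_insert_of_mem _ rfl)
  obtain ⟨k, hk, -⟩ := A.exists_unit
  have h1 : A.T 1 0 * A.H k⁻¹ * (A.T 1 0)⁻¹ * (A.H k⁻¹)⁻¹ ∈ M := by
    have := mul_mem (mul_mem (mul_mem hb (hH k)) (inv_mem hb)) (inv_mem (hH k⁻¹))
    rwa [show A.T 1 0 * A.W * A.H k * (A.T 1 0 * A.W)⁻¹ = A.T 1 0 * (A.W * A.H k * A.W⁻¹) * (A.T 1 0)⁻¹ by group,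
      show A.W⁻¹ = A.W from inv_eq_of_mul_eq_one_right A.W_sq, A.W_conj] at this
  rw [show A.T 1 0 * A.H k⁻¹ * (A.T 1 0)⁻¹ * (A.H k⁻¹)⁻¹ =
    A.T 1 0 * (A.H k⁻¹ * (A.T 1 0)⁻¹ * (A.H k⁻¹)⁻¹) by group, A.T_inv, A.H_conj, A.T_mul] at h1
  have hT := A.T_mem_of (fun j x hx => mul_mem (mul_mem (hH j) hx) (inv_mem (hH j))) (fun e => hk ?_) h1
  · refine A.eq_top_of_gens M hT hH ?_
    have := mul_mem (inv_mem (hT 1 0)) hb
    rwa [inv_mul_cancel_left] at this
  · have e' : ((k⁻¹ : Fˣ) : F) = 1 := by linear_combination e - A.two0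
    have := k.mul_inv
    rw [e', mul_one] at this
    exact this

theorem form_T (a b : F) : (tMat m a b)ᵀ * Cfsg.suzukiForm F * tMat m a b = Cfsg.suzukiForm F := by
  ext i j
  fin_cases i <;> fin_cases j <;>
    simp [tMat, Cfsg.suzukiForm, Matrix.mul_apply, Fin.sum_univ_four, Matrix.vecHead, Matrix.vecTail] <;>
    first
      | (linear_combination (b + sg m a * a) * A.two0)
      | (linear_combination b * A.two0)
      | (linear_combination a * A.two0)
      | (linear_combination sg m a * A.two0)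
      | (linear_combination (fn m a b + a * b + sg m a * a * a) * A.two0)
      | (right; linear_combination 2 * A.two0)
      | (simp [fn]; ring_nf; simp [A.two0, show (4 : F) = 0 by linear_combination 2 * A.two0])

theorem form (g : Cfsg.Sz F m) :
    ((g : Matrix.SpecialLinearGroup (Fin 4) F) : Matrix (Fin 4) (Fin 4) F)ᵀ * Cfsg.suzukiForm F *
      ((g : Matrix.SpecialLinearGroup (Fin 4) F) : Matrix (Fin 4) (Fin 4) F) = Cfsg.suzukiForm F := by
  let J := Cfsg.suzukiForm F
  let S : Subgroup (Cfsg.Sz F m) :=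
    { carrier := {g | ((g : Matrix.SpecialLinearGroup (Fin 4) F) : Matrix (Fin 4) (Fin 4) F)ᵀ * J *
        ((g : Matrix.SpecialLinearGroup (Fin 4) F) : Matrix (Fin 4) (Fin 4) F) = J}
      one_mem' := by simp
      mul_mem' := by
        intro x y hx hy
        simp only [Set.mem_ofPred_eq, Subgroup.coe_mul, Matrix.SpecialLinearGroup.coe_mul, Matrix.transpose_mul] at hx hy ⊢
        rw [show ∀ (a b c d e : Matrix (Fin 4) (Fin 4) F), a * b * c * (d * e) = a * (b * c * d) * e from
          fun a b c d e => by simp only [mul_assoc], hx, hy]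
      inv_mem' := by
        intro x hx
        simp only [Set.mem_ofPred_eq] at hx ⊢
        set M := ((x : Matrix.SpecialLinearGroup (Fin 4) F) : Matrix (Fin 4) (Fin 4) F)
        set M' := (((x⁻¹ : Cfsg.Sz F m) : Matrix.SpecialLinearGroup (Fin 4) F) : Matrix (Fin 4) (Fin 4) F)
        have e : M * M' = 1 := by
          have h2 : ((x * x⁻¹ : Cfsg.Sz F m) : Matrix.SpecialLinearGroup (Fin 4) F) = 1 := by
            rw [mul_inv_cancel]; rfl
          exact congrArg Subtype.val h2
        calc M'ᵀ * J * M' = M'ᵀ * (Mᵀ * J * M) * M' := by rw [hx]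
          _ = (M * M')ᵀ * J * (M * M') := by rw [Matrix.transpose_mul]; simp only [mul_assoc]
          _ = J := by rw [e]; simp }
  have : S = ⊤ := by
    refine A.eq_top_of_gens S (fun a b => A.form_T a b) (fun k => ?_) ?_
    · show (hMat m k)ᵀ * J * hMat m k = J
      have h1 : ((k : F)) ^ (2 ^ m + 1) ≠ 0 := pow_ne_zero _ k.ne_zero
      have h2 : ((k : F)) ^ 2 ^ m ≠ 0 := pow_ne_zero _ k.ne_zero
      ext i j
      fin_cases i <;> fin_cases j <;>
        simp [J, hMat, Cfsg.suzukiForm, Matrix.diagonal, Matrix.mul_apply, Fin.sum_univ_four, h1, h2,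
          Matrix.vecHead, Matrix.vecTail]
    · show (Cfsg.suzukiForm F)ᵀ * J * Cfsg.suzukiForm F = J
      ext i j
      fin_cases i <;> fin_cases j <;>
        simp [J, Cfsg.suzukiForm, Matrix.mul_apply, Fin.sum_univ_four, Matrix.vecHead, Matrix.vecTail]
  exact (this.ge (Subgroup.mem_top g) : g ∈ S)

theorem independent (p : Fin 3 ↪ Cfsg.suzukiOvoid F m) :
    Projectivization.Independent (fun i => (p i : Projectivization F (Fin 4 → F))) := by
  have hne : ∀ i j, i ≠ j → p i ≠ p j := fun i j h e => h (p.injective e)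
  obtain ⟨g, h0, h1⟩ := A.move_two (hne 0 1 (by decide))
  rcases cases_pt (g • p 2) with h2 | ⟨x, y, h2⟩
  · rw [← h0] at h2
    exact absurd (MulAction.injective g h2) (hne 2 0 (by decide))
  have hxy : ¬(x = 0 ∧ y = 0) := by
    rintro ⟨rfl, rfl⟩
    rw [← h1] at h2
    exact hne 2 1 (by decide) (MulAction.injective g h2)
  set M := (((g⁻¹ : Cfsg.Sz F m) : Matrix.SpecialLinearGroup (Fin 4) F) : Matrix (Fin 4) (Fin 4) F)
  let v : Fin 3 → Fin 4 → F := ![![1, 0, 0, 0], vP m 0 0, vP m x y]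
  have hv : LinearIndependent F v := by
    rw [Fintype.linearIndependent_iff]
    intro c hc
    have c0 := congrFun hc 0
    have c1 := congrFun hc 1
    have c2 := congrFun hc 2
    have c3 := congrFun hc 3
    simp [v, vP, fn, A.sg_zero, Fin.sum_univ_three] at c0 c1 c2 c3
    have z2 : c 2 = 0 := by
      by_contra hz
      exact hxy ⟨(c2.resolve_left hz), (c1.resolve_left hz)⟩
    rw [z2] at c0 c3
    simp at c0 c3
    intro i
    fin_cases i
    · exact c0
    · exact c3
    · exact z2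
  have hM : Function.Injective M.mulVecLin := by
    intro a b h
    have := congrArg ((((g : Cfsg.Sz F m) : Matrix.SpecialLinearGroup (Fin 4) F) : Matrix (Fin 4) (Fin 4) F) *ᵥ ·) h
    simp only [Matrix.mulVecLin_apply, Matrix.mulVec_mulVec, M, ← Matrix.SpecialLinearGroup.coe_mul,
      ← Subgroup.coe_mul, mul_inv_cancel, Subgroup.coe_one, Matrix.SpecialLinearGroup.coe_one, Matrix.one_mulVec] at this
    exact this
  have hw : LinearIndependent F (fun i => M *ᵥ v i) :=
    hv.map' M.mulVecLin (LinearMap.ker_eq_bot.2 hM)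
  have hp : ∀ i, (p i : Projectivization F (Fin 4 → F)) = Projectivization.mk F (M *ᵥ v i) (hw.ne_zero i) := by
    intro i
    have key : ∀ (q : Cfsg.suzukiOvoid F m) (w : Fin 4 → F) (hw0 : w ≠ 0) (hn : M *ᵥ w ≠ 0),
        (q : Projectivization F (Fin 4 → F)) = Projectivization.mk F w hw0 →
        ((g⁻¹ • q : Cfsg.suzukiOvoid F m) : Projectivization F (Fin 4 → F)) = Projectivization.mk F (M *ᵥ w) hn := by
      intro q w hw0 hn e
      refine Eq.trans ?_ (smul_mk' ((g⁻¹ : Cfsg.Sz F m) : Matrix.SpecialLinearGroup (Fin 4) F) hw0 hn (c := 1)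
        (by rw [one_smul]))
      rw [← e]
      rfl
    fin_cases i
    · exact (congrArg Subtype.val (inv_smul_eq_iff.2 h0.symm).symm).trans (key (inf F m) _ _ _ rfl)
    · exact (congrArg Subtype.val (inv_smul_eq_iff.2 h1.symm).symm).trans (key _ _ _ _ rfl)
    · exact (congrArg Subtype.val (inv_smul_eq_iff.2 h2.symm).symm).trans (key _ _ _ _ rfl)
  rw [show (fun i => (p i : Projectivization F (Fin 4 → F))) =
    fun i => Projectivization.mk F (M *ᵥ v i) (hw.ne_zero i) from funext hp]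
  exact Projectivization.Independent.mk _ _ hw

theorem elab_TI_iff (n : ℕ) (hn : 2 ≤ n) :
    (∃ E : Subgroup (Cfsg.Sz F m), Cfsg.IsElementaryAbelian 2 E ∧ Nat.card E = 2 ^ n ∧
      ∀ x : Cfsg.Sz F m, E ⊓ E.map (MulAut.conj x).toMonoidHom ≠ ⊥ →
        x ∈ Subgroup.normalizer (E : Set (Cfsg.Sz F m))) ↔ n ∣ 2 * m + 1 := by
  classical
  haveI := A.char2
  haveI : Fact (Nat.Prime 2) := ⟨Nat.prime_two⟩
  constructor
  · rintro ⟨E, ⟨hcomm, hE2⟩, hEcard, hTI⟩
    obtain ⟨P, hP⟩ := (IsPGroup.of_card (p := 2) hEcard).exists_le_sylow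
    obtain ⟨x, hx⟩ := A.sylow_conj P
    rw [hx] at hP
    let S : Set F := {s | MulAut.conj x (A.T 0 s) ∈ E}
    have S_zero : (0 : F) ∈ S := by simp [S, A.T_zero]
    have hbij : Function.Bijective (fun s : S => (⟨MulAut.conj x (A.T 0 s), s.2⟩ : E)) := by
      refine ⟨fun s s' h => Subtype.ext (A.T_inj ((MulAut.conj x).injective (congrArg Subtype.val h))).2, ?_⟩
      rintro ⟨e, he⟩
      obtain ⟨u, hu, rfl⟩ := Subgroup.mem_map.1 (hP he)
      obtain ⟨a, b, rfl⟩ := A.mem_U.1 hu
      have := hE2 _ he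
      rw [MulEquiv.coe_toMonoidHom, sq, ← map_mul, MulEquiv.map_eq_one_iff, A.T_sq_eq_one] at this
      subst this
      exact ⟨⟨b, he⟩, rfl⟩
    have hScard : Nat.card S = 2 ^ n := by rw [Nat.card_eq_of_bijective _ hbij, hEcard]
    have hTI' : ∀ (k : Fˣ) (s : F), s ∈ S → s ≠ 0 → sg m (k : F) * k * s ∈ S →
        ∀ t ∈ S, sg m (k : F) * k * t ∈ S := by
      intro k s hs hs0 hks
      have hc : ∀ r, MulAut.conj x (A.H k) * MulAut.conj x (A.T 0 r) * (MulAut.conj x (A.H k))⁻¹ =
          MulAut.conj x (A.T 0 (sg m (k : F) * k * r)) := fun r => by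
        rw [← map_mul, ← map_inv, ← map_mul, A.H_conj, mul_zero]
      have hN := hTI (MulAut.conj x (A.H k)) fun hbot => by
        have hmem : MulAut.conj x (A.T 0 (sg m (k : F) * k * s)) ∈
            E ⊓ E.map (MulAut.conj (MulAut.conj x (A.H k))).toMonoidHom :=
          ⟨hks, ⟨_, hs, hc s⟩⟩
        rw [hbot, Subgroup.mem_bot, MulEquiv.map_eq_one_iff, ← A.T_zero] at hmem
        exact mul_ne_zero (mul_ne_zero (fun e => k.ne_zero (A.sg_eq_zero e)) k.ne_zero) hs0 (A.T_inj hmem).2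
      intro t ht
      have := (Subgroup.mem_normalizer_iff.1 hN _).1 ht
      rwa [hc] at this
    obtain ⟨s0, hs0, hs0'⟩ : ∃ s ∈ S, s ≠ 0 := by
      by_contra hcon
      push_neg at hcon
      have : Nat.card S ≤ 1 := Finite.card_le_one_iff_subsingleton.2
        ⟨fun a b => Subtype.ext ((hcon _ a.2).trans (hcon _ b.2).symm)⟩
      rw [hScard] at this
      have : 2 ^ 1 ≤ 2 ^ n := Nat.pow_le_pow_right two_pos (by omega)
      omega
    have hmul : ∀ s ∈ S, ∀ t ∈ S, s * t / s0 ∈ S := by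
      intro s hs t ht
      by_cases h : s = 0
      · rw [h, zero_mul, zero_div]; exact S_zero
      obtain ⟨k, hk⟩ := A.u_surj (div_ne_zero h hs0')
      have := hTI' k s0 hs0 hs0' (by rwa [hk, div_mul_cancel₀ _ hs0']) t ht
      rwa [hk, div_mul_eq_mul_div] at this
    let K : Submonoid Fˣ :=
      { carrier := {u | (u : F) * s0 ∈ S}
        one_mem' := by simpa using hs0
        mul_mem' := fun {u u'} h h' => by
          have := hmul _ h _ h'
          rw [show (u : F) * s0 * ((u' : F) * s0) / s0 = (u : F) * u' * s0 by field_simp] at this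
          simpa using this }
    let K' : Subgroup Fˣ :=
      { K with
        inv_mem' := fun {u} h => by
          have hp := pow_mem (show u ∈ K from h) (orderOf u - 1)
          rwa [show u ^ (orderOf u - 1) = u⁻¹ from eq_inv_of_mul_eq_one_left (by
            rw [← pow_succ, Nat.sub_add_cancel (orderOf_pos u), pow_orderOf_eq_one])] at hp }
    have hK : Nat.card K' = 2 ^ n - 1 := by
      have e : Function.Bijective (fun u : K' => (⟨⟨((u : Fˣ) : F) * s0, u.2⟩, by
          intro e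
          have := congrArg Subtype.val e
          exact mul_ne_zero (u : Fˣ).ne_zero hs0' this⟩ : {s : S // s ≠ ⟨0, S_zero⟩})) := by
        refine ⟨fun u u' h => Subtype.ext (Units.ext (mul_right_cancel₀ hs0' (congrArg (fun z => z.1.1) h))), ?_⟩
        rintro ⟨⟨s, hs⟩, hne⟩
        have hs' : s ≠ 0 := fun e => hne (Subtype.ext e)
        exact ⟨⟨Units.mk0 (s / s0) (div_ne_zero hs' hs0'), by
          show s / s0 * s0 ∈ S
          rwa [div_mul_cancel₀ _ hs0']⟩, Subtype.ext (Subtype.ext (div_mul_cancel₀ _ hs0'))⟩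
      rw [Nat.card_eq_of_bijective _ e, Nat.card_eq_fintype_card, Fintype.card_subtype_compl,
        Fintype.card_subtype_eq, ← Nat.card_eq_fintype_card, hScard]
    have hd := Subgroup.card_subgroup_dvd_card K'
    rw [hK, Nat.card_units, Nat.card_eq_fintype_card, A.card] at hd
    have hg := Nat.gcd_eq_left hd
    rw [Nat.pow_sub_one_gcd_pow_sub_one] at hg
    have hg2 : 2 ^ Nat.gcd n (2 * m + 1) = 2 ^ n := by
      have := Nat.one_le_two_pow (n := Nat.gcd n (2 * m + 1))
      have := Nat.one_le_two_pow (n := n)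
      omega
    rw [← Nat.pow_right_injective le_rfl hg2]
    exact Nat.gcd_dvd_right _ _
  · intro hd
    let K : Set F := {c | c ^ 2 ^ n = c}
    have K0 : (0 : F) ∈ K := zero_pow (by positivity)
    have Kadd : ∀ c ∈ K, ∀ d ∈ K, c + d ∈ K := fun c hc d hd => by
      simp only [K, Set.mem_ofPred_eq] at hc hd ⊢
      rw [add_pow_char_pow c d 2 n, hc, hd]
    have Kmul : ∀ c ∈ K, ∀ d ∈ K, c * d ∈ K := fun c hc d hd => by
      simp only [K, Set.mem_ofPred_eq] at hc hd ⊢
      rw [mul_pow, hc, hd]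
    have Kdiv : ∀ c ∈ K, ∀ d ∈ K, c / d ∈ K := fun c hc d hd => by
      simp only [K, Set.mem_ofPred_eq] at hc hd ⊢
      rw [div_pow, hc, hd]
    have hKcard : Nat.card K = 2 ^ n := by
      have hn1 : 1 ≤ 2 ^ n := Nat.one_le_two_pow
      let f : Option ((powMonoidHom (2 ^ n - 1) : Fˣ →* Fˣ).ker) → K := fun o =>
        o.elim ⟨0, K0⟩ fun u => ⟨((u : Fˣ) : F), by
          have := congrArg Units.val u.2
          simp only [powMonoidHom_apply, Units.val_pow_eq_pow_val, Units.val_one] at this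
          show ((u : Fˣ) : F) ^ 2 ^ n = _
          have e : ((u : Fˣ) : F) ^ 2 ^ n = ((u : Fˣ) : F) ^ (2 ^ n - 1) * ((u : Fˣ) : F) := by
            rw [← pow_succ, Nat.sub_add_cancel hn1]
          rw [e, this, one_mul]⟩
      have hf : Function.Bijective f := by
        constructor
        · rintro (_ | u) (_ | u') h
          · rfl
          · exact absurd (congrArg Subtype.val h).symm (u' : Fˣ).ne_zero
          · exact absurd (congrArg Subtype.val h) (u : Fˣ).ne_zero
          · exact congrArg some (Subtype.ext (Units.ext (congrArg Subtype.val h)))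
        · rintro ⟨c, hc⟩
          by_cases h : c = 0
          · exact ⟨none, Subtype.ext h.symm⟩
          · refine ⟨some ⟨Units.mk0 c h, Units.ext ?_⟩, rfl⟩
            simp only [powMonoidHom_apply, Units.val_pow_eq_pow_val, Units.val_mk0, Units.val_one]
            refine mul_right_cancel₀ h ?_
            rw [← pow_succ, Nat.sub_add_cancel hn1, hc, one_mul]
      rw [← Nat.card_eq_of_bijective f hf, Finite.card_option, IsCyclic.card_powMonoidHom_ker, Nat.card_units,
        Nat.card_eq_fintype_card, A.card, Nat.pow_sub_one_gcd_pow_sub_one, Nat.gcd_comm, Nat.gcd_eq_left hd]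
      omega
    let E : Subgroup (Cfsg.Sz F m) :=
      { carrier := (fun c => A.T 0 c) '' K
        one_mem' := ⟨0, K0, A.T_zero⟩
        mul_mem' := by
          rintro _ _ ⟨c, hc, rfl⟩ ⟨d, hd, rfl⟩
          refine ⟨c + d, Kadd c hc d hd, ?_⟩
          show _ = A.T 0 c * A.T 0 d
          rw [A.T_mul, A.sg_zero]
          congr 1 <;> ring
        inv_mem' := by
          rintro _ ⟨c, hc, rfl⟩
          refine ⟨c, hc, ?_⟩
          show _ = (A.T 0 c)⁻¹
          rw [A.T_inv, A.sg_zero, zero_mul, add_zero] }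
    refine ⟨E, ⟨⟨⟨?_⟩⟩, ?_⟩, ?_, ?_⟩
    · rintro ⟨_, c, -, rfl⟩ ⟨_, d, -, rfl⟩
      refine Subtype.ext ?_
      show A.T 0 c * A.T 0 d = A.T 0 d * A.T 0 c
      rw [A.T_mul, A.T_mul, A.sg_zero]
      congr 1
      ring
    · rintro _ ⟨c, -, rfl⟩
      rw [sq, A.T_sq_eq_one]
    · rw [← hKcard]
      exact Nat.card_image_of_injective (fun c d h => (A.T_inj h).2) K
    · intro x hx
      obtain ⟨e, he, hne⟩ := (Subgroup.bot_or_exists_ne_one _).resolve_left hx
      obtain ⟨⟨c', hc', rfl⟩, ⟨_, ⟨c, hc, rfl⟩, hxc⟩⟩ := he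
      simp only [MulEquiv.coe_toMonoidHom, MulAut.conj_apply] at hxc
      have hc0 : A.T 0 c ≠ 1 := fun e => hne (show A.T 0 c' = 1 by rw [← hxc, e, mul_one, mul_inv_cancel])
      have hO := A.fixes_of_conj (A.T_mem_U 0 c) hc0 (by rw [hxc]; exact A.T_mem_U 0 c')
      obtain ⟨a, b, k, rfl⟩ := A.stab_inf hO
      have hc : ∀ r, A.T a b * A.H k * A.T 0 r * (A.T a b * A.H k)⁻¹ = A.T 0 (sg m (k : F) * k * r) := fun r => by
        rw [show A.T a b * A.H k * A.T 0 r * (A.T a b * A.H k)⁻¹ =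
          A.T a b * (A.H k * A.T 0 r * (A.H k)⁻¹) * (A.T a b)⁻¹ by group, A.H_conj, A.T_conj]
        simp [A.sg_zero]
      rename_i hcK
      rw [hc] at hxc
      have hu : sg m (k : F) * k ∈ K := by
        have hc1 : c ≠ 0 := fun e => hc0 (by rw [e, A.T_zero])
        have := Kdiv c' hc' c hcK
        rw [← (A.T_inj hxc).2, mul_div_assoc, div_self hc1, mul_one] at this
        exact this
      rw [Subgroup.mem_normalizer_iff]
      intro z
      constructor
      · rintro ⟨r, hr, rfl⟩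
        exact ⟨_, Kmul _ hu r hr, (hc r).symm⟩
      · rintro ⟨r, hr, e⟩
        have hu0 : sg m (k : F) * k ≠ 0 := mul_ne_zero (fun e => k.ne_zero (A.sg_eq_zero e)) k.ne_zero
        refine ⟨r / (sg m (k : F) * k), Kdiv r hr _ hu, ?_⟩
        have e2 := hc (r / (sg m (k : F) * k))
        rw [mul_div_cancel₀ _ hu0] at e2
        exact mul_left_cancel (mul_right_cancel (e2.trans e))

end Setup

end CfsgLib.Suz
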