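import Cfsg.Agent.Suz.Ovoid
import Mathlib.GroupTheory.Sylow
import Mathlib.Algebra.Polynomial.Roots
import Mathlib.GroupTheory.Commutator.Basic
import Mathlib.FieldTheory.Finite.Basic

/-!
The Suzuki group: two-point stabiliser, order, simplicity.
-/

set_option autoImplicit false
set_option linter.unusedSectionVars false
set_option linter.style.haveILetI false

namespace CfsgLib.Suz

open Matrix Pointwise

variable {F : Type*} [Field F] [Fintype F] {m : ℕ}

/-- three monomials of low degree -/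
theorem coeff3 {c1 c2 c3 : F} {i j k : ℕ} (hij : i ≠ j) (hik : i ≠ k) (hjk : j ≠ k)
    (hi : i < Fintype.card F) (hj : j < Fintype.card F) (hk : k < Fintype.card F)
    (h : ∀ y : F, c1 * y ^ i + c2 * y ^ j + c3 * y ^ k = 0) : c1 = 0 ∧ c2 = 0 ∧ c3 = 0 := by
  let p : Polynomial F := .C c1 * .X ^ i + .C c2 * .X ^ j + .C c3 * .X ^ k
  have hp : p = 0 := by
    refine Polynomial.eq_zero_of_natDegree_lt_card_of_eval_eq_zero p (f := id) Function.injective_id
      (fun y => by simpa [p] using h y) ?_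
    refine lt_of_le_of_lt (Polynomial.natDegree_add_le_of_degree_le (n := max (max i j) k) ?_ ?_) (by omega)
    · refine Polynomial.natDegree_add_le_of_degree_le ?_ ?_
      · exact (Polynomial.natDegree_C_mul_X_pow_le _ _).trans (by omega)
      · exact (Polynomial.natDegree_C_mul_X_pow_le _ _).trans (by omega)
    · exact (Polynomial.natDegree_C_mul_X_pow_le _ _).trans (by omega)
  refine ⟨?_, ?_, ?_⟩
  · simpa [p, Polynomial.coeff_C_mul_X_pow, hij, hik] using congrArg (Polynomial.coeff · i) hp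
  · simpa [p, Polynomial.coeff_C_mul_X_pow, hij.symm, hjk] using congrArg (Polynomial.coeff · j) hp
  · simpa [p, Polynomial.coeff_C_mul_X_pow, hik.symm, hjk.symm] using congrArg (Polynomial.coeff · k) hp

namespace Setup

variable (A : Setup F m)

include A

/-- translations -/
def T (a b : F) : Cfsg.Sz F m := ⟨tSL m a b, A.tSL_mem a b⟩

/-- torus -/
def H (k : Fˣ) : Cfsg.Sz F m := ⟨hSL m k, A.hSL_mem k⟩

/-- swap -/
def W : Cfsg.Sz F m := ⟨wSL F, A.wSL_mem⟩

theorem T_pt (a b x y : F) : A.T a b • pt m x y = pt m (x + a) (y + sg m a * x + b) :=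
  Subtype.ext (A.tSL_pt a b x y)

theorem T_inf (a b : F) : A.T a b • inf F m = inf F m := Subtype.ext (A.tSL_inf a b)

theorem H_pt (k : Fˣ) (x y : F) : A.H k • pt m x y = pt m ((k : F) * x) (sg m (k : F) * (k : F) * y) :=
  Subtype.ext (A.hSL_pt k x y)

theorem H_inf (k : Fˣ) : A.H k • inf F m = inf F m := Subtype.ext (A.hSL_inf k)

theorem H_zero (k : Fˣ) : A.H k • pt m (0 : F) 0 = pt m 0 0 := by simp [A.H_pt]

theorem W_inf : A.W • inf F m = pt m (0 : F) 0 := Subtype.ext A.wSL_inf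

theorem W_zero : A.W • pt m (0 : F) 0 = inf F m := Subtype.ext A.wSL_zero

theorem W_pt {x y : F} (h : ¬(x = 0 ∧ y = 0)) :
    A.W • pt m x y = pt m (y / fn m x y) (x / fn m x y) :=
  Subtype.ext (A.wSL_pt h)

theorem W_one_one : A.W • pt m (1 : F) 1 = pt m 1 1 := by
  rw [A.W_pt (by simp)]
  have : fn m (1 : F) 1 = 1 := by
    simp only [fn, A.sg_one]
    linear_combination A.two0
  simp [this]

theorem T_zero_pt (a b : F) : A.T a b • pt m (0 : F) 0 = pt m a b := by simp [A.T_pt]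

theorem fix_two_val {g : Cfsg.Sz F m} (h1 : g • inf F m = inf F m) (h2 : g • pt m (0 : F) 0 = pt m 0 0) :
    ∃ k : Fˣ, g = A.H k := by
  -- the fixed plane z = 0
  have plane : ∀ g : Cfsg.Sz F m, g • inf F m = inf F m → g • pt m (0 : F) 0 = pt m 0 0 →
      (g : Matrix.SpecialLinearGroup (Fin 4) F) 1 0 = 0 ∧ (g : Matrix.SpecialLinearGroup (Fin 4) F) 2 0 = 0 ∧
      (g : Matrix.SpecialLinearGroup (Fin 4) F) 3 0 = 0 ∧ (g : Matrix.SpecialLinearGroup (Fin 4) F) 0 3 = 0 ∧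
      (g : Matrix.SpecialLinearGroup (Fin 4) F) 1 3 = 0 ∧ (g : Matrix.SpecialLinearGroup (Fin 4) F) 2 3 = 0 ∧
      (g : Matrix.SpecialLinearGroup (Fin 4) F) 3 1 = 0 ∧ (g : Matrix.SpecialLinearGroup (Fin 4) F) 3 2 = 0 ∧
      (g : Matrix.SpecialLinearGroup (Fin 4) F) 3 3 ≠ 0 := by
    intro g h1 h2
    obtain ⟨a, ha⟩ := mulVec_of_smul _ (congrArg Subtype.val h1)
    obtain ⟨d, hd⟩ := mulVec_of_smul _ (congrArg Subtype.val h2)
    have a1 := congrFun ha 1
    have a2 := congrFun ha 2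
    have a3 := congrFun ha 3
    have d0 := congrFun hd 0
    have d1 := congrFun hd 1
    have d2 := congrFun hd 2
    simp [Matrix.mulVec, dotProduct, Fin.sum_univ_four, vP, fn, A.sg_zero] at a1 a2 a3 d0 d1 d2
    have key : ∀ x y : F, (g : Matrix.SpecialLinearGroup (Fin 4) F) 3 1 * y +
        (g : Matrix.SpecialLinearGroup (Fin 4) F) 3 2 * x + (g : Matrix.SpecialLinearGroup (Fin 4) F) 3 3 ≠ 0 := by
      intro x y e
      rcases cases_pt (g • pt m x y) with h | ⟨X, Y, h⟩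
      · rw [← h1] at h
        exact pt_ne_inf m x y (MulAction.injective g h)
      · obtain ⟨c, hc⟩ := mulVec_of_smul _ (congrArg Subtype.val h)
        have c3 := congrFun hc 3
        simp [Matrix.mulVec, dotProduct, Fin.sum_univ_four, vP, a3] at c3
        have hc0 : c = 0 := by rw [← c3, e]
        rw [hc0, zero_smul] at hc
        have := congrArg ((((g : Matrix.SpecialLinearGroup (Fin 4) F)⁻¹ : Matrix.SpecialLinearGroup (Fin 4) F) :
          Matrix (Fin 4) (Fin 4) F) *ᵥ ·) hc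
        simp only [Matrix.mulVec_mulVec, ← Matrix.SpecialLinearGroup.coe_mul, inv_mul_cancel,
          Matrix.SpecialLinearGroup.coe_one, Matrix.one_mulVec, Matrix.mulVec_zero] at this
        exact vP_ne m x y this
    have h33 : (g : Matrix.SpecialLinearGroup (Fin 4) F) 3 3 ≠ 0 := by simpa using key 0 0
    refine ⟨a1, a2, a3, d0, d1, d2, ?_, ?_, h33⟩
    · by_contra hne
      exact key 0 (-(g : Matrix.SpecialLinearGroup (Fin 4) F) 3 3 / (g : Matrix.SpecialLinearGroup (Fin 4) F) 3 1)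
        (by field_simp; ring)
    · by_contra hne
      exact key (-(g : Matrix.SpecialLinearGroup (Fin 4) F) 3 3 / (g : Matrix.SpecialLinearGroup (Fin 4) F) 3 2) 0
        (by field_simp; ring)
  obtain ⟨g10, g20, g30, g03, g13, g23, g31, g32, g33⟩ := plane g h1 h2
  obtain ⟨-, -, -, -, -, -, w31, w32, -⟩ := plane (A.W * g * A.W)
    (by rw [mul_smul, mul_smul, A.W_inf, h2, A.W_zero]) (by rw [mul_smul, mul_smul, A.W_zero, h1, A.W_inf])
  change (Cfsg.suzukiForm F * ((g : Matrix.SpecialLinearGroup (Fin 4) F) : Matrix (Fin 4) (Fin 4) F) *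
    Cfsg.suzukiForm F) 3 1 = 0 at w31
  change (Cfsg.suzukiForm F * ((g : Matrix.SpecialLinearGroup (Fin 4) F) : Matrix (Fin 4) (Fin 4) F) *
    Cfsg.suzukiForm F) 3 2 = 0 at w32
  simp [Cfsg.suzukiForm, Matrix.mul_apply, Matrix.vecMul, dotProduct, Fin.sum_univ_four] at w31 w32
  have hdet0 := (g : Matrix.SpecialLinearGroup (Fin 4) F).prop
  have raw : ∀ x y : F, ∃ X Y,
      (g : Matrix.SpecialLinearGroup (Fin 4) F) 0 0 * fn m x y = (g : Matrix.SpecialLinearGroup (Fin 4) F) 3 3 * fn m X Y ∧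
      (g : Matrix.SpecialLinearGroup (Fin 4) F) 1 1 * y + (g : Matrix.SpecialLinearGroup (Fin 4) F) 1 2 * x =
        (g : Matrix.SpecialLinearGroup (Fin 4) F) 3 3 * Y ∧
      (g : Matrix.SpecialLinearGroup (Fin 4) F) 2 1 * y + (g : Matrix.SpecialLinearGroup (Fin 4) F) 2 2 * x =
        (g : Matrix.SpecialLinearGroup (Fin 4) F) 3 3 * X := by
    intro x y
    rcases cases_pt (g • pt m x y) with h | ⟨X, Y, h⟩
    · rw [← h1] at h
      exact absurd (MulAction.injective g h) (pt_ne_inf m x y)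
    · obtain ⟨e, he⟩ := mulVec_of_smul _ (congrArg Subtype.val h)
      have e0 := congrFun he 0
      have e1 := congrFun he 1
      have e2 := congrFun he 2
      have e3 := congrFun he 3
      simp [Matrix.mulVec, dotProduct, Fin.sum_univ_four, vP, g10, g20, g30, g03, g13, g23, g31, g32,
        w31, w32] at e0 e1 e2 e3
      subst e3
      exact ⟨X, Y, e0, e1, e2⟩
  obtain ⟨M, hM⟩ : ∃ M : Matrix (Fin 4) (Fin 4) F,
      ((g : Matrix.SpecialLinearGroup (Fin 4) F) : Matrix (Fin 4) (Fin 4) F) = M := ⟨_, rfl⟩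
  rw [hM] at g10 g20 g30 g03 g13 g23 g31 g32 g33 w31 w32 hdet0
  simp only [hM] at raw
  obtain ⟨δ, hδ⟩ : ∃ δ, δ = M 3 3 := ⟨_, rfl⟩
  rw [← hδ] at g33 raw
  obtain ⟨a, ha⟩ : ∃ a, a = M 1 1 / δ := ⟨_, rfl⟩
  obtain ⟨b, hb⟩ : ∃ b, b = M 1 2 / δ := ⟨_, rfl⟩
  obtain ⟨c, hc⟩ : ∃ c, c = M 2 1 / δ := ⟨_, rfl⟩
  obtain ⟨d, hd⟩ : ∃ d, d = M 2 2 / δ := ⟨_, rfl⟩
  obtain ⟨α, hα⟩ : ∃ α, α = M 0 0 / δ := ⟨_, rfl⟩
  have eqn : ∀ x y : F, α * fn m x y = fn m (c * y + d * x) (a * y + b * x) := by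
    intro x y
    obtain ⟨X, Y, e0, e1, e2⟩ := raw x y
    rw [show c * y + d * x = X from ?_, show a * y + b * x = Y from ?_, hα]
    · field_simp; linear_combination e0
    · rw [ha, hb]; field_simp; linear_combination e1
    · rw [hc, hd]; field_simp; linear_combination e2
  obtain ⟨hs, hsq⟩ := A.bounds
  have hcq : (2 : ℕ) < Fintype.card F := by omega
  have p0 : c = 0 ∧ α = sg m a := by
    have h' := coeff3 (c1 := c * a) (c2 := sg m a - α) (c3 := sg m c * c ^ 2) (i := 2) (j := 2 ^ (m + 1))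
      (k := 2 ^ (m + 1) + 2) (by omega) (by omega) (by omega) hcq (by omega) hsq (fun y => by
        have := eqn 0 y
        simp only [fn, A.sg_zero, mul_zero, zero_mul, zero_add, add_zero, A.sg_mul] at this
        simp only [sg] at this ⊢
        rw [pow_add]
        linear_combination -this)
    refine ⟨?_, (sub_eq_zero.1 h'.2.1).symm⟩
    rcases mul_eq_zero.1 h'.2.2 with h | h
    · exact A.sg_eq_zero h
    · exact eq_zero_of_pow_eq_zero h
  have q0 : b = 0 ∧ α = sg m d * d ^ 2 := by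
    have h' := coeff3 (c1 := d * b) (c2 := sg m b) (c3 := sg m d * d ^ 2 - α) (i := 2) (j := 2 ^ (m + 1))
      (k := 2 ^ (m + 1) + 2) (by omega) (by omega) (by omega) hcq (by omega) hsq (fun x => by
        have := eqn x 0
        simp only [fn, A.sg_zero, mul_zero, zero_mul, zero_add, add_zero, A.sg_mul] at this
        simp only [sg] at this ⊢
        rw [pow_add]
        linear_combination -this)
    exact ⟨A.sg_eq_zero h'.2.1, (sub_eq_zero.1 h'.2.2).symm⟩
  have had : a * d = α := by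
    have := eqn 1 1
    rw [p0.1, q0.1] at this
    simp only [fn, zero_mul, zero_add, add_zero, mul_one, one_mul, A.sg_one, one_pow] at this
    rw [← q0.2, ← p0.2] at this
    linear_combination -this + 0 * A.two0 + (0 : F) * A.two0
  have hM' : ∀ i j, M i j = δ * (Matrix.diagonal ![α, a, d, 1] : Matrix (Fin 4) (Fin 4) F) i j := by
    have e1 : δ * b = M 1 2 := by rw [hb]; field_simp
    have e2 : δ * c = M 2 1 := by rw [hc]; field_simp
    rw [q0.1, mul_zero] at e1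
    rw [p0.1, mul_zero] at e2
    intro i j
    fin_cases i <;> fin_cases j <;>
      simp [Matrix.diagonal, g10, g20, g30, g03, g13, g23, g31, g32, w31, w32, ← e1, ← e2, ha, hd, hα,
        mul_div_cancel₀ _ g33, hδ, mul_div_cancel₀ _ (hδ ▸ g33)]
  have hdet : δ ^ 4 * (α * a * d) = 1 := by
    have := hdet0
    rw [show M = δ • (Matrix.diagonal ![α, a, d, 1]) from
      Matrix.ext hM', Matrix.det_smul, Matrix.det_diagonal] at this
    simpa [Fin.prod_univ_four] using this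
  rw [mul_assoc, had] at hdet
  have hd0 : d ≠ 0 := by
    intro e
    rw [q0.2, e] at hdet
    simp at hdet
  haveI := A.char2
  have eδ : δ * d ^ (2 ^ m + 1) = 1 := by
    have hx : d ^ (2 ^ m + 1) * d ^ (2 ^ m + 1) = sg m d * d ^ 2 := by rw [sg]; ring
    have e4 : ((δ * d ^ (2 ^ m + 1)) ^ 2) ^ 2 = (1 ^ 2) ^ 2 := by
      rw [q0.2, ← hx] at hdet
      linear_combination hdet
    exact CharTwo.sq_injective (CharTwo.sq_injective e4)
  refine ⟨Units.mk0 d hd0, Subtype.ext (Subtype.ext (Matrix.ext fun i j => ?_))⟩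
  rw [hM, hM']
  have eδ' : δ = (d ^ (2 ^ m + 1))⁻¹ := eq_inv_of_mul_eq_one_left eδ
  have ea : a = sg m d * d := mul_right_cancel₀ hd0 (by rw [had, q0.2]; ring)
  have es : sg m d = (d ^ 2 ^ m) ^ 2 := by rw [sg, ← pow_mul, pow_succ]
  have hn : d ^ 2 ^ m ≠ 0 := pow_ne_zero _ hd0
  fin_cases i <;> fin_cases j <;>
    simp [H, hSL, hMat, Matrix.diagonal, eδ', ea, q0.2, es, pow_succ] <;> field_simp

theorem H_eq_one_of_pt {k : Fˣ} {x y : F} (h : ¬(x = 0 ∧ y = 0)) (e : A.H k • pt m x y = pt m x y) :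
    A.H k = 1 := by
  have hk : k = 1 := by
    rw [A.H_pt] at e
    obtain ⟨ex, ey⟩ := pt_inj e
    rw [Units.ext_iff, Units.val_one]
    by_cases hx : x = 0
    · have hy : y ≠ 0 := fun hy => h ⟨hx, hy⟩
      have e1 : sg m (k : F) * k = 1 := mul_right_cancel₀ hy (by rw [ey, one_mul])
      have e2 := congrArg (sg m) e1
      rw [A.sg_mul, A.sg_sg, A.sg_one] at e2
      linear_combination e2 - (k : F) * e1
    · exact mul_right_cancel₀ hx (by rw [ex, one_mul])
  subst hk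
  refine Subtype.ext (Subtype.ext (Matrix.ext fun i j => ?_))
  show hMat m 1 i j = (1 : Matrix (Fin 4) (Fin 4) F) i j
  fin_cases i <;> fin_cases j <;> simp [hMat]

theorem eq_one_of_three {g : Cfsg.Sz F m} {x y : F} (h : ¬(x = 0 ∧ y = 0))
    (h1 : g • inf F m = inf F m) (h2 : g • pt m (0 : F) 0 = pt m 0 0) (h3 : g • pt m x y = pt m x y) : g = 1 := by
  obtain ⟨k, rfl⟩ := A.fix_two_val h1 h2
  exact A.H_eq_one_of_pt h h3

theorem ext_pt {g g' : Cfsg.Sz F m} (h1 : g • inf F m = g' • inf F m)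
    (h2 : ∀ x y : F, g • pt m x y = g' • pt m x y) : g = g' := by
  refine (inv_mul_eq_one.1 (A.eq_one_of_three (g := g⁻¹ * g') (x := 1) (y := 0) (by simp) ?_ ?_ ?_))
  · rw [mul_smul, ← h1, inv_smul_smul]
  · rw [mul_smul, ← h2, inv_smul_smul]
  · rw [mul_smul, ← h2, inv_smul_smul]

theorem T_mul (a b a' b' : F) : A.T a' b' * A.T a b = A.T (a + a') (b + b' + sg m a' * a) := by
  refine A.ext_pt (by simp [mul_smul, A.T_inf]) fun x y => ?_
  simp only [mul_smul, A.T_pt, A.sg_add]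
  congr 1 <;> ring

theorem T_zero : A.T (0 : F) 0 = 1 :=
  A.ext_pt (by simp [A.T_inf]) fun x y => by simp [A.T_pt, A.sg_zero]

theorem T_inv (a b : F) : (A.T a b)⁻¹ = A.T a (b + sg m a * a) := by
  refine inv_eq_of_mul_eq_one_right ?_
  rw [A.T_mul, ← A.T_zero]
  congr 1
  · linear_combination a * A.two0
  · linear_combination (b + sg m a * a) * A.two0

theorem T_inj {a b a' b' : F} (h : A.T a b = A.T a' b') : a = a' ∧ b = b' := by
  have := congrArg (· • pt m (0 : F) 0) h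
  simp only [A.T_zero_pt] at this
  exact pt_inj this

theorem H_mul (k k' : Fˣ) : A.H k * A.H k' = A.H (k * k') := by
  refine A.ext_pt (by simp [mul_smul, A.H_inf]) fun x y => ?_
  simp only [mul_smul, A.H_pt, Units.val_mul, A.sg_mul]
  congr 1 <;> ring

theorem H_inj {k k' : Fˣ} (h : A.H k = A.H k') : k = k' := by
  have := congrArg (· • pt m (1 : F) 0) h
  simp only [A.H_pt, mul_one] at this
  exact Units.ext (pt_inj this).1

/-- torus homomorphism -/
def hHom : Fˣ →* Cfsg.Sz F m := MonoidHom.mk' A.H fun k k' => (A.H_mul k k').symm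

theorem H_one : A.H 1 = 1 := map_one A.hHom

theorem H_inv (k : Fˣ) : (A.H k)⁻¹ = A.H k⁻¹ := (map_inv A.hHom k).symm

theorem H_conj (k : Fˣ) (a b : F) :
    A.H k * A.T a b * (A.H k)⁻¹ = A.T ((k : F) * a) (sg m (k : F) * k * b) := by
  rw [mul_inv_eq_iff_eq_mul]
  refine A.ext_pt (by simp [mul_smul, A.T_inf, A.H_inf]) fun x y => ?_
  simp only [mul_smul, A.T_pt, A.H_pt, A.sg_mul]
  congr 1 <;> ring

theorem T_conj (c d a b : F) :
    A.T c d * A.T a b * (A.T c d)⁻¹ = A.T a (b + sg m c * a + sg m a * c) := by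
  rw [A.T_inv, A.T_mul, A.T_mul]
  congr 1
  · linear_combination c * A.two0
  · simp only [A.sg_add]
    linear_combination (d + sg m c * c) * A.two0

theorem W_sq : A.W * A.W = 1 := by
  refine Subtype.ext (Subtype.ext ?_)
  show Cfsg.suzukiForm F * Cfsg.suzukiForm F = 1
  ext i j
  fin_cases i <;> fin_cases j <;> simp [Cfsg.suzukiForm, Matrix.mul_apply, Fin.sum_univ_four]

theorem W_conj (k : Fˣ) : A.W * A.H k * A.W = A.H k⁻¹ := by
  refine Subtype.ext (Subtype.ext ?_)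
  show Cfsg.suzukiForm F * hMat m k * Cfsg.suzukiForm F = hMat m k⁻¹
  ext i j
  fin_cases i <;> fin_cases j <;>
    simp [hMat, Cfsg.suzukiForm, Matrix.mul_apply, Matrix.diagonal, Matrix.vecHead, Matrix.vecTail, Fin.sum_univ_four, inv_pow]

theorem stab_inf {g : Cfsg.Sz F m} (h : g • inf F m = inf F m) : ∃ a b k, g = A.T a b * A.H k := by
  rcases cases_pt (g • pt m (0 : F) 0) with h0 | ⟨a, b, h0⟩
  · rw [← h] at h0
    exact absurd (MulAction.injective g h0) (pt_ne_inf m 0 0)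
  · obtain ⟨k, hk⟩ := A.fix_two_val (g := (A.T a b)⁻¹ * g)
      (by rw [mul_smul, h, inv_smul_eq_iff, A.T_inf]) (by rw [mul_smul, h0, inv_smul_eq_iff, A.T_zero_pt])
    exact ⟨a, b, k, by rw [← hk, mul_inv_cancel_left]⟩

theorem decomp (g : Cfsg.Sz F m) :
    g • inf F m = inf F m ∨ ∃ a b g', g' • inf F m = inf F m ∧ g = A.T a b * A.W * g' := by
  rcases cases_pt (g • inf F m) with h | ⟨a, b, h⟩
  · exact Or.inl h
  · refine Or.inr ⟨a, b, (A.T a b * A.W)⁻¹ * g, ?_, by group⟩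
    rw [mul_smul, h, inv_smul_eq_iff, mul_smul, A.W_inf, A.T_zero_pt]

theorem eq_top_of_gens (M : Subgroup (Cfsg.Sz F m)) (hT : ∀ a b, A.T a b ∈ M) (hH : ∀ k, A.H k ∈ M)
    (hW : A.W ∈ M) : M = ⊤ := by
  rw [eq_top_iff]
  intro g _
  have hB : ∀ g : Cfsg.Sz F m, g • inf F m = inf F m → g ∈ M := fun g hg => by
    obtain ⟨a, b, k, rfl⟩ := A.stab_inf hg
    exact mul_mem (hT a b) (hH k)
  rcases A.decomp g with h | ⟨a, b, g', h, rfl⟩
  · exact hB g h
  · exact mul_mem (mul_mem (hT a b) hW) (hB g' h)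

theorem move (p : Cfsg.suzukiOvoid F m) : ∃ g : Cfsg.Sz F m, g • p = inf F m := by
  rcases cases_pt p with rfl | ⟨x, y, rfl⟩
  · exact ⟨1, one_smul _ _⟩
  · exact ⟨A.W * (A.T x y)⁻¹, by rw [mul_smul, inv_smul_eq_iff.2 (A.T_zero_pt x y).symm, A.W_zero]⟩

theorem move_two {p r : Cfsg.suzukiOvoid F m} (h : p ≠ r) :
    ∃ g : Cfsg.Sz F m, g • p = inf F m ∧ g • r = pt m (0 : F) 0 := by
  obtain ⟨g, hg⟩ := A.move p
  rcases cases_pt (g • r) with h0 | ⟨a, b, h0⟩
  · rw [← hg] at h0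
    exact absurd (MulAction.injective g h0).symm h
  · refine ⟨(A.T a b)⁻¹ * g, ?_, ?_⟩
    · rw [mul_smul, hg, inv_smul_eq_iff, A.T_inf]
    · rw [mul_smul, h0, inv_smul_eq_iff, A.T_zero_pt]

theorem isPretransitive : MulAction.IsPretransitive (Cfsg.Sz F m) (Cfsg.suzukiOvoid F m) :=
  ⟨fun p r => by
    obtain ⟨g, hg⟩ := A.move p
    obtain ⟨g', hg'⟩ := A.move r
    exact ⟨g'⁻¹ * g, by rw [mul_smul, hg, inv_smul_eq_iff, hg']⟩⟩

theorem two_trans : MulAction.IsMultiplyPretransitive (Cfsg.Sz F m) (Cfsg.suzukiOvoid F m) 2 := by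
  refine MulAction.is_two_pretransitive_iff.2 fun {a b c d} hab hcd => ?_
  obtain ⟨g, hg1, hg2⟩ := A.move_two hab
  obtain ⟨g', hg1', hg2'⟩ := A.move_two hcd
  refine ⟨g'⁻¹ * g, ?_, ?_⟩
  · rw [mul_smul, hg1, inv_smul_eq_iff, hg1']
  · rw [mul_smul, hg2, inv_smul_eq_iff, hg2']

/-- the point stabiliser as a set of pairs -/
noncomputable def stabEquiv : (F × F) × Fˣ ≃ MulAction.stabilizer (Cfsg.Sz F m) (inf F m) :=
  Equiv.ofBijective
    (fun p => ⟨A.T p.1.1 p.1.2 * A.H p.2, by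
      rw [MulAction.mem_stabilizer_iff, mul_smul, A.H_inf, A.T_inf]⟩)
    (by
      constructor
      · rintro ⟨⟨a, b⟩, k⟩ ⟨⟨a', b'⟩, k'⟩ h
        have h' : A.T a b * A.H k = A.T a' b' * A.H k' := congrArg Subtype.val h
        have e := congrArg (· • pt m (0 : F) 0) h'
        simp only [mul_smul, A.H_zero, A.T_zero_pt] at e
        obtain ⟨rfl, rfl⟩ := pt_inj e
        rw [A.H_inj (mul_left_cancel h')]
      · rintro ⟨g, hg⟩
        obtain ⟨a, b, k, rfl⟩ := A.stab_inf hg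
        exact ⟨((a, b), k), rfl⟩)

theorem card_stab : Nat.card (MulAction.stabilizer (Cfsg.Sz F m) (inf F m)) =
    (2 ^ (2 * m + 1)) ^ 2 * (2 ^ (2 * m + 1) - 1) := by
  rw [← Nat.card_congr A.stabEquiv, Nat.card_prod, Nat.card_prod, Nat.card_units, Nat.card_eq_fintype_card,
    A.card, sq]

theorem card_Sz : Nat.card (Cfsg.Sz F m) =
    (2 ^ (2 * m + 1)) ^ 2 * ((2 ^ (2 * m + 1)) ^ 2 + 1) * (2 ^ (2 * m + 1) - 1) := by
  haveI := A.isPretransitive
  have h := MulAction.index_stabilizer_of_transitive (Cfsg.Sz F m) (inf F m)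
  rw [card_ovoid, A.card] at h
  rw [← (MulAction.stabilizer (Cfsg.Sz F m) (inf F m)).card_mul_index, A.card_stab, h]
  ring

theorem exists_unit : ∃ k : Fˣ, (k : F) ≠ 1 ∧ sg m (k : F) * k ≠ 1 := by
  classical
  obtain ⟨x, hx⟩ : ∃ x : F, x ∉ ({0, 1} : Finset F) := by
    refine (Finset.exists_mem_notMem_of_card_lt_card (t := Finset.univ) ?_).imp fun x hx => hx.2
    rw [Finset.card_univ, A.card]
    have : ({0, 1} : Finset F).card ≤ 2 := Finset.card_le_two
    have : 2 ^ 3 ≤ 2 ^ (2 * m + 1) := Nat.pow_le_pow_right (by norm_num) (by have := A.hm; omega)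
    omega
  simp only [Finset.mem_insert, Finset.mem_singleton, not_or] at hx
  refine ⟨Units.mk0 x hx.1, hx.2, fun e => hx.2 ?_⟩
  have e2 := congrArg (sg m) e
  rw [A.sg_mul, A.sg_sg, A.sg_one] at e2
  simp only [Units.val_mk0] at e e2
  linear_combination e2 - x * e

theorem u_surj {c : F} (hc : c ≠ 0) : ∃ k : Fˣ, sg m (k : F) * k = c := by
  let φ : Fˣ → Fˣ := fun k => Units.mk0 (sg m (k : F) * k)
    (mul_ne_zero (fun e => k.ne_zero (A.sg_eq_zero e)) k.ne_zero)
  have hφ : Function.Injective φ := by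
    intro k k' h
    have e : sg m (k : F) * k = sg m (k' : F) * k' := congrArg Units.val h
    have e2 := congrArg (sg m) e
    rw [A.sg_mul, A.sg_mul, A.sg_sg, A.sg_sg] at e2
    have : ((k : F) - k') * (sg m (k : F) * k) = 0 := by
      linear_combination e2 - (k' : F) * e
    rcases mul_eq_zero.1 this with h | h
    · exact Units.ext (sub_eq_zero.1 h)
    · exact absurd h (φ k).ne_zero
  obtain ⟨k, hk⟩ := (Finite.injective_iff_surjective.1 hφ) (Units.mk0 c hc)
  exact ⟨k, congrArg Units.val hk⟩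

theorem T_mem_of {M : Subgroup (Cfsg.Sz F m)} (hH : ∀ k x, x ∈ M → A.H k * x * (A.H k)⁻¹ ∈ M)
    {a c : F} (ha : a ≠ 0) (h : A.T a c ∈ M) : ∀ x y, A.T x y ∈ M := by
  have hz : ∀ y, A.T (0 : F) y ∈ M := fun y => by
    by_cases hy : y = 0
    · rw [hy, A.T_zero]; exact one_mem M
    · have h2 := mul_mem h h
      rw [A.T_mul, show a + a = 0 by linear_combination a * A.two0,
        show c + c + sg m a * a = sg m a * a by linear_combination c * A.two0] at h2
      have hne : sg m a * a ≠ 0 := mul_ne_zero (fun e => ha (A.sg_eq_zero e)) ha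
      obtain ⟨k, hk⟩ := A.u_surj (div_ne_zero hy hne)
      have := hH k _ h2
      rw [A.H_conj, hk, mul_zero, div_mul_cancel₀ _ hne] at this
      exact this
  intro x y
  by_cases hx : x = 0
  · rw [hx]; exact hz y
  · have := hH (Units.mk0 (x / a) (div_ne_zero hx ha)) _ h
    rw [A.H_conj, Units.val_mk0, div_mul_cancel₀ _ ha] at this
    have h3 := mul_mem (hz (y + sg m (x / a) * (x / a) * c)) this
    rw [A.T_mul, A.sg_zero] at h3
    convert h3 using 2
    · rw [add_zero]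
    · linear_combination -(sg m (x / a) * (x / a) * c) * A.two0

theorem W_mem_of_normal (N : Subgroup (Cfsg.Sz F m)) [N.Normal] (hB : ∀ g : Cfsg.Sz F m, g • inf F m = inf F m → g ∈ N) :
    A.W ∈ N := by
  obtain ⟨g, hg⟩ := A.move (pt m (1 : F) 1)
  have h := hB (g * A.W * g⁻¹) (by rw [mul_smul, mul_smul, inv_smul_eq_iff.2 hg.symm, A.W_one_one, hg])
  have := Subgroup.Normal.conj_mem inferInstance _ h g⁻¹
  simpa [mul_assoc] using this

open scoped commutatorElement in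
theorem perfect : commutator (Cfsg.Sz F m) = ⊤ := by
  obtain ⟨k, hk, -⟩ := A.exists_unit
  have hc : ∀ x y : Cfsg.Sz F m, x * y * x⁻¹ * y⁻¹ ∈ commutator (Cfsg.Sz F m) :=
    fun x y => Subgroup.commutator_mem_commutator (Subgroup.mem_top x) (Subgroup.mem_top y)
  have hT : ∀ a b, A.T a b ∈ commutator (Cfsg.Sz F m) := by
    have h1 := hc (A.H k) (A.T 1 0)
    rw [A.H_conj, A.T_inv, A.T_mul] at h1
    refine A.T_mem_of (fun j x hx => Subgroup.Normal.conj_mem inferInstance _ hx _) ?_ h1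
    intro e
    exact hk (by linear_combination e - A.two0)
  have hH : ∀ k, A.H k ∈ commutator (Cfsg.Sz F m) := fun k => by
    haveI := A.char2
    haveI : Fact (Nat.Prime 2) := ⟨Nat.prime_two⟩
    obtain ⟨j, hj⟩ := (Finite.injective_iff_surjective.1
      (show Function.Injective (fun j : Fˣ => j * j) from fun j j' e => Units.ext (CharTwo.sq_injective
        (show (j : F) ^ 2 = (j' : F) ^ 2 by rw [sq, sq]; exact congrArg Units.val e)))) k
    have := hc (A.H j) A.W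
    rw [show (A.W)⁻¹ = A.W from inv_eq_of_mul_eq_one_right A.W_sq,
      show A.H j * A.W * (A.H j)⁻¹ * A.W = A.H j * (A.W * (A.H j)⁻¹ * A.W) by group,
      A.H_inv, A.W_conj, inv_inv, A.H_mul] at this
    rwa [← hj]
  refine A.eq_top_of_gens _ hT hH (A.W_mem_of_normal _ fun g hg => ?_)
  obtain ⟨a, b, j, rfl⟩ := A.stab_inf hg
  exact mul_mem (hT a b) (hH j)

/-- the translation subgroup -/
def U : Subgroup (Cfsg.Sz F m) where
  carrier := Set.range fun p : F × F => A.T p.1 p.2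
  one_mem' := ⟨(0, 0), A.T_zero⟩
  mul_mem' := by
    rintro _ _ ⟨p, rfl⟩ ⟨r, rfl⟩
    exact ⟨(_, _), (A.T_mul r.1 r.2 p.1 p.2).symm⟩
  inv_mem' := by
    rintro _ ⟨p, rfl⟩
    exact ⟨(p.1, p.2 + sg m p.1 * p.1), (A.T_inv p.1 p.2).symm⟩

theorem mem_U {g : Cfsg.Sz F m} : g ∈ A.U ↔ ∃ a b, g = A.T a b :=
  ⟨fun ⟨p, hp⟩ => ⟨p.1, p.2, hp.symm⟩, fun ⟨a, b, h⟩ => ⟨(a, b), h.symm⟩⟩

theorem T_mem_U (a b : F) : A.T a b ∈ A.U := ⟨(a, b), rfl⟩

theorem conj_U {g : Cfsg.Sz F m} (hg : g • inf F m = inf F m) {u : Cfsg.Sz F m} (hu : u ∈ A.U) :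
    g * u * g⁻¹ ∈ A.U := by
  obtain ⟨a, b, k, rfl⟩ := A.stab_inf hg
  obtain ⟨x, y, rfl⟩ := A.mem_U.1 hu
  rw [show A.T a b * A.H k * A.T x y * (A.T a b * A.H k)⁻¹ =
    A.T a b * (A.H k * A.T x y * (A.H k)⁻¹) * (A.T a b)⁻¹ by group, A.H_conj, A.T_conj]
  exact A.T_mem_U _ _

open scoped commutatorElement in
theorem normal_eq_top (N : Subgroup (Cfsg.Sz F m)) [hN : N.Normal] (hne : N ≠ ⊥) : N = ⊤ := by
  obtain ⟨n, hn, hn1⟩ : ∃ n ∈ N, n • inf F m ≠ inf F m := by
    obtain ⟨n, hn, hn1⟩ := (Subgroup.bot_or_exists_ne_one N).resolve_left hne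
    by_contra hc
    push_neg at hc
    refine hn1 (A.ext_pt (by rw [hc n hn, one_smul]) fun x y => ?_)
    obtain ⟨g, hg⟩ := A.move (pt m x y)
    have := hc _ (hN.conj_mem n hn g)
    rw [mul_smul, mul_smul, ← hg, inv_smul_smul] at this
    rw [one_smul]
    exact MulAction.injective g this
  have htr : ∀ p, ∃ n' ∈ N, n' • inf F m = p := fun p => by
    by_cases hp : p = inf F m
    · exact ⟨1, one_mem N, by rw [hp, one_smul]⟩
    · obtain ⟨g, hg1, hg2⟩ : ∃ g : Cfsg.Sz F m, g • inf F m = inf F m ∧ g • (n • inf F m) = p := by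
        haveI := A.two_trans
        obtain ⟨g, h1, h2⟩ := MulAction.is_two_pretransitive_iff.1 A.two_trans (Ne.symm hn1) (Ne.symm hp)
        exact ⟨g, h1, h2⟩
      refine ⟨g * n * g⁻¹, hN.conj_mem n hn g, ?_⟩
      rw [mul_smul, mul_smul, inv_smul_eq_iff.2 hg1.symm, hg2]
  let π := QuotientGroup.mk' N
  let B := MulAction.stabilizer (Cfsg.Sz F m) (inf F m)
  let Z : Subgroup (Cfsg.Sz F m) := Subgroup.closure (Set.range fun c : F => A.T 0 c)
  have hB : (⊤ : Subgroup (Cfsg.Sz F m ⧸ N)) ≤ B.map π := fun q _ => by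
    obtain ⟨g, rfl⟩ := QuotientGroup.mk'_surjective N q
    obtain ⟨n', hn', e⟩ := htr (g • inf F m)
    refine ⟨n'⁻¹ * g, ?_, ?_⟩
    · rw [SetLike.mem_coe, MulAction.mem_stabilizer_iff, mul_smul, inv_smul_eq_iff, e]
    · rw [map_mul, map_inv, show QuotientGroup.mk' N n' = 1 from (QuotientGroup.eq_one_iff n').2 hn', inv_one,
        one_mul]
  have hperf : ⁅(⊤ : Subgroup (Cfsg.Sz F m ⧸ N)), (⊤ : Subgroup (Cfsg.Sz F m ⧸ N))⁆ = (⊤ : Subgroup (Cfsg.Sz F m ⧸ N)) := by
    rw [← Subgroup.map_top_of_surjective π (QuotientGroup.mk'_surjective N), ← Subgroup.map_commutator,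
      ← commutator_def, A.perfect]
  have step : ∀ X Y : Subgroup (Cfsg.Sz F m), (⊤ : Subgroup (Cfsg.Sz F m ⧸ N)) ≤ X.map π → ⁅X, X⁆ ≤ Y →
      (⊤ : Subgroup (Cfsg.Sz F m ⧸ N)) ≤ Y.map π := fun X Y hX hY =>
    hperf.ge.trans ((Subgroup.commutator_mono hX hX).trans
      ((Subgroup.map_commutator X X π).ge.trans (Subgroup.map_mono hY)))
  have h1 := step B A.U hB <| Subgroup.commutator_le.2 fun g hg g' hg' => by
    obtain ⟨a, b, k, rfl⟩ := A.stab_inf hg
    obtain ⟨a', b', k', rfl⟩ := A.stab_inf hg'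
    obtain ⟨u1, v1, e1⟩ := A.mem_U.1 (A.conj_U (A.H_inf k) (A.T_mem_U a' b'))
    obtain ⟨u2, v2, e2⟩ := A.mem_U.1 (A.conj_U (A.H_inf k') (inv_mem (A.T_mem_U a b)))
    rw [show ⁅A.T a b * A.H k, A.T a' b' * A.H k'⁆ = A.T a b * (A.H k * A.T a' b' * (A.H k)⁻¹) *
      ((A.H k * A.H k' * (A.H k)⁻¹ * (A.H k')⁻¹) *
        (A.H k' * (A.T a b)⁻¹ * (A.H k')⁻¹)) * (A.T a' b')⁻¹ by rw [commutatorElement_def]; group,
      e1, e2, A.H_inv, A.H_inv, A.H_mul, A.H_mul, A.H_mul,
      show k * k' * k⁻¹ * k'⁻¹ = 1 by rw [mul_inv_cancel_comm, mul_inv_cancel], A.H_one, one_mul]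
    exact mul_mem (mul_mem (mul_mem (A.T_mem_U _ _) (A.T_mem_U _ _)) (A.T_mem_U _ _)) (inv_mem (A.T_mem_U _ _))
  have h2 := step A.U Z h1 <| Subgroup.commutator_le.2 fun g hg g' hg' => by
    obtain ⟨a, b, rfl⟩ := A.mem_U.1 hg
    obtain ⟨a', b', rfl⟩ := A.mem_U.1 hg'
    rw [commutatorElement_def, A.T_conj, A.T_inv, A.T_mul]
    rw [show a' + a' = 0 by linear_combination a' * A.two0]
    exact Subgroup.subset_closure ⟨_, rfl⟩
  have h3 := step Z ⊥ h2 <| by
    refine le_of_eq (Subgroup.commutator_eq_bot_iff_le_centralizer.2 ?_)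
    rw [Subgroup.closure_le]
    rintro _ ⟨c, rfl⟩
    rw [SetLike.mem_coe, Subgroup.centralizer_closure, Subgroup.mem_centralizer_iff]
    rintro _ ⟨c', rfl⟩
    rw [A.T_mul, A.T_mul, A.sg_zero]
    congr 1
    ring
  rw [Subgroup.map_bot] at h3
  rw [eq_top_iff]
  intro g _
  exact (QuotientGroup.eq_one_iff g).1 (Subgroup.mem_bot.1 (h3 (Subgroup.mem_top _)))

theorem nontrivial : Nontrivial (Cfsg.Sz F m) := by
  refine ⟨⟨A.T 1 0, 1, fun e => ?_⟩⟩
  rw [← A.T_zero] at e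
  exact one_ne_zero (A.T_inj e).1

theorem isSimple : IsSimpleGroup (Cfsg.Sz F m) :=
  haveI := A.nontrivial
  ⟨fun N hN => (em (N = ⊥)).imp_right fun h => A.normal_eq_top N (hN := hN) h⟩

theorem zassenhaus : Cfsg.IsZassenhausGroup (Cfsg.Sz F m) (Cfsg.suzukiOvoid F m) := by
  refine ⟨⟨fun {g g'} h => A.ext_pt (h _) fun x y => h _⟩, A.two_trans, ?_, ?_, ?_⟩
  · intro g a b c hab hbc hac ha hb hc
    obtain ⟨j, hj1, hj2⟩ := A.move_two hab
    rcases cases_pt (j • c) with h0 | ⟨x, y, h0⟩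
    · rw [← hj1] at h0
      exact absurd (MulAction.injective j h0).symm hac
    · have := A.eq_one_of_three (g := j * g * j⁻¹) (x := x) (y := y) ?_ ?_ ?_ ?_
      · rwa [conj_eq_one_iff] at this
      · rintro ⟨rfl, rfl⟩
        rw [← hj2] at h0
        exact hbc (MulAction.injective j h0).symm
      · rw [mul_smul, mul_smul, inv_smul_eq_iff.2 hj1.symm, ha, hj1]
      · rw [mul_smul, mul_smul, inv_smul_eq_iff.2 hj2.symm, hb, hj2]
      · rw [mul_smul, mul_smul, inv_smul_eq_iff.2 h0.symm, hc, h0]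
  · obtain ⟨k, hk, -⟩ := A.exists_unit
    exact ⟨A.H k, fun e => hk (congrArg Units.val (A.H_inj (e.trans A.H_one.symm))), inf F m, pt m 0 0,
      (pt_ne_inf m 0 0).symm, A.H_inf k, A.H_zero k⟩
  · intro N hN htr
    refine ⟨inf F m, fun hbot => ?_⟩
    by_cases hne : N = ⊥
    · obtain ⟨g, hg⟩ := htr.exists_smul_eq (inf F m) (pt m 0 0)
      have : g = 1 := Subtype.ext (by simpa [hne] using g.2)
      rw [this, one_smul] at hg
      exact pt_ne_inf m 0 0 hg.symm
    · have := A.normal_eq_top N (hN := hN) hne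
      subst this
      obtain ⟨k, hk, -⟩ := A.exists_unit
      have : (⟨A.H k, Subgroup.mem_top _⟩ : (⊤ : Subgroup (Cfsg.Sz F m))) ∈ MulAction.stabilizer _ (inf F m) :=
        A.H_inf k
      rw [hbot, Subgroup.mem_bot] at this
      exact hk (congrArg Units.val (A.H_inj ((congrArg Subtype.val this).trans A.H_one.symm)))

end Setup

end CfsgLib.Suz
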