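import Mathlib.LinearAlgebra.Matrix.Charpoly.Coeff
import Mathlib.FieldTheory.Finite.Basic
import Mathlib.RingTheory.AdjoinRoot
import Mathlib.RingTheory.IntegralDomain
import Mathlib.FieldTheory.Galois.Basic
import Mathlib.FieldTheory.Finite.GaloisField
import Mathlib.GroupTheory.Index

/-!
Elements of prime order `p ∣ q² + 1` in a group of 4 × 4 matrices over a field of characteristic two:
cyclic centraliser, and normaliser index dividing four.
-/

set_option autoImplicit false
set_option linter.unusedSectionVars false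
set_option linter.style.haveILetI false

namespace CfsgLib.Suz

open Polynomial Matrix

variable {F : Type*} [Field F] [Fintype F] [CharP F 2] {p : ℕ} [Fact p.Prime]

theorem order_four (hp2 : p ≠ 2) (hp : p ∣ Fintype.card F ^ 2 + 1) {d : ℕ} (hd0 : d ≠ 0) (hd : d ≤ 4)
    (h : p ∣ Fintype.card F ^ d - 1) : d = 4 := by
  have hp' := (Fact.out : p.Prime)
  set q := Fintype.card F
  have h1 : ((q : ZMod p)) ^ 2 = -1 := by
    have : ((q ^ 2 + 1 : ℕ) : ZMod p) = 0 := (ZMod.natCast_eq_zero_iff _ _).2 hp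
    push_cast at this
    linear_combination this
  have h2 : (q : ZMod p) ^ d = 1 := by
    have hq : 1 ≤ q ^ d := Nat.one_le_pow _ _ Fintype.card_pos
    have : ((q ^ d - 1 : ℕ) : ZMod p) = 0 := (ZMod.natCast_eq_zero_iff _ _).2 h
    rw [Nat.cast_sub hq] at this
    push_cast at this
    linear_combination this
  have hne : (2 : ZMod p) ≠ 0 := by
    intro e
    have e' : ((2 : ℕ) : ZMod p) = 0 := by exact_mod_cast e
    exact hp2 ((Nat.prime_dvd_prime_iff_eq hp' Nat.prime_two).1 ((ZMod.natCast_eq_zero_iff _ _).1 e'))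
  obtain h1d | h2d | h3d | h4d : d = 1 ∨ d = 2 ∨ d = 3 ∨ d = 4 := by omega
  · subst h1d
    exact absurd (show (2 : ZMod p) = 0 by
      rw [pow_one] at h2
      rw [h2] at h1
      linear_combination h1) hne
  · subst h2d
    exact absurd (show (2 : ZMod p) = 0 by linear_combination h1 - h2) hne
  · subst h3d
    exact absurd (show (2 : ZMod p) = 0 by
      have h4 : (q : ZMod p) = -1 := by
        linear_combination (q : ZMod p) * h1 - h2
      rw [h4] at h1
      linear_combination h1) hne
  · exact h4d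

theorem charpoly_irreducible (hp2 : p ≠ 2) (hp : p ∣ Fintype.card F ^ 2 + 1) {M : Matrix (Fin 4) (Fin 4) F}
    (hM : M ^ p = 1) (hM1 : M ≠ 1) : Irreducible M.charpoly := by
  classical
  haveI : Fact (Nat.Prime 2) := ⟨Nat.prime_two⟩
  have hp' := (Fact.out : p.Prime)
  have hmonic := M.charpoly_monic
  have hdeg : M.charpoly.natDegree = 4 := by simp [Matrix.charpoly_natDegree_eq_dim]
  let Q : F[X] := ∑ i ∈ Finset.range p, X ^ i
  have hQ : Q * (X - 1) = X ^ p - 1 := geom_sum_mul X p
  obtain ⟨f, hf, hfd, hf1⟩ : ∃ f : F[X], Irreducible f ∧ f ∣ minpoly F M ∧ ¬f ∣ X - 1 := by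
    have hdvd : minpoly F M ∣ Q * (X - 1) := by
      rw [hQ]; exact minpoly.dvd F M (by simp [hM])
    by_cases hu : IsUnit (EuclideanDomain.gcd (minpoly F M) Q)
    · exfalso
      obtain ⟨u, hu'⟩ := (EuclideanDomain.gcd_isUnit_iff.1 hu).dvd_of_dvd_mul_left hdvd
      have e : M - 1 = 0 := by
        have := congrArg (aeval M) hu'
        simpa [minpoly.aeval] using this
      exact hM1 (sub_eq_zero.1 e)
    · obtain ⟨f, hf, hfg⟩ := WfDvdMonoid.exists_irreducible_factor hu (fun e =>
        minpoly.ne_zero (Matrix.isIntegral M) (EuclideanDomain.gcd_eq_zero_iff.1 e).1)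
      refine ⟨f, hf, hfg.trans (EuclideanDomain.gcd_dvd_left _ _), fun h => ?_⟩
      have h1 := (hf.associated_of_dvd (by simpa using irreducible_X_sub_C (1 : F)) h).symm.dvd.trans
        (hfg.trans (EuclideanDomain.gcd_dvd_right _ _))
      have h2 : Q.eval 1 = 0 := by
        obtain ⟨w, hw⟩ := h1
        rw [hw]; simp
      have h3 : ((p : ℕ) : F) = 0 := by simpa [Q, eval_finsetSum] using h2
      have h4 := (CharP.cast_eq_zero_iff F 2 p).1 h3
      exact hp2 ((Nat.prime_dvd_prime_iff_eq Nat.prime_two hp').1 h4).symm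
  haveI : Fact (Irreducible f) := ⟨hf⟩
  have hf0 : f ≠ 0 := hf.ne_zero
  let pb := AdjoinRoot.powerBasis hf0
  haveI : Module.Finite F (AdjoinRoot f) := pb.finite
  haveI : Finite (AdjoinRoot f) := Module.finite_of_finite F
  letI : Fintype (AdjoinRoot f) := Fintype.ofFinite _
  have hroot : (AdjoinRoot.root f) ^ p = 1 := by
    have h1 : f ∣ (X ^ p - 1 : F[X]) := hfd.trans (minpoly.dvd F M (by simp [hM]))
    have := (AdjoinRoot.mk_eq_zero.2 h1)
    simpa [sub_eq_zero] using this
  have hroot1 : AdjoinRoot.root f ≠ 1 := fun e => hf1 (AdjoinRoot.mk_eq_zero.1 (by simp [e]))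
  have hord : orderOf (AdjoinRoot.root f) = p := orderOf_eq_prime hroot hroot1
  have hdvd : p ∣ Fintype.card F ^ f.natDegree - 1 := by
    have hr0 : AdjoinRoot.root f ≠ 0 := fun e => by simp [e, zero_pow hp'.ne_zero] at hroot
    have h2 := FiniteField.pow_card_sub_one_eq_one _ hr0
    rw [← hord]
    refine orderOf_dvd_of_pow_eq_one ?_
    rwa [Module.card_eq_pow_finrank (K := F), pb.finrank, AdjoinRoot.powerBasis_dim] at h2
  have hfle : f.natDegree ≤ 4 :=
    hdeg ▸ natDegree_le_of_dvd (hfd.trans M.minpoly_dvd_charpoly) hmonic.ne_zero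
  have h4 := order_four hp2 hp hf.natDegree_pos.ne' hfle hdvd
  have hassoc : Associated f M.charpoly :=
    associated_of_dvd_of_natDegree_le (hfd.trans M.minpoly_dvd_charpoly) hmonic.ne_zero (by omega)
  exact hassoc.irreducible hf

theorem singer {G : Type*} [Group G] [Finite G] (ι : G →* Matrix (Fin 4) (Fin 4) F) (hι : Function.Injective ι)
    (hp2 : p ≠ 2) (hp : p ∣ Fintype.card F ^ 2 + 1) {g : G} (hg : orderOf g = p) :
    IsCyclic (Subgroup.centralizer ({g} : Set G)) ∧ ∃ n : ℕ, n ∣ 4 ∧
      Nat.card (Subgroup.normalizer ((Subgroup.centralizer ({g} : Set G)) : Set G)) =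
        n * Nat.card (Subgroup.centralizer ({g} : Set G)) := by
  classical
  have hp' := (Fact.out : p.Prime)
  set M := ι g with hMdef
  have hM : M ^ p = 1 := by rw [hMdef, ← map_pow, ← hg, pow_orderOf_eq_one, map_one]
  have hM1 : M ≠ 1 := fun e => by
    rw [hMdef, ← map_one ι] at e
    rw [hι e, orderOf_one] at hg
    exact hp'.ne_one hg.symm
  have hirr := charpoly_irreducible hp2 hp hM hM1
  haveI : Fact (Irreducible M.charpoly) := ⟨hirr⟩
  let K := AdjoinRoot M.charpoly
  let ψ : K →ₐ[F] Matrix (Fin 4) (Fin 4) F :=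
    Ideal.Quotient.liftₐ (Ideal.span {M.charpoly}) (aeval M) (fun a ha => by
      obtain ⟨w, rfl⟩ := Ideal.mem_span_singleton.1 ha
      simp [Matrix.aeval_self_charpoly])
  have hψm : ∀ P, ψ (AdjoinRoot.mk _ P) = aeval M P := fun P => rfl
  have hψr : ψ (AdjoinRoot.root _) = M := (hψm X).trans (aeval_X M)
  have hψi : Function.Injective ψ := ψ.toRingHom.injective
  let pb := AdjoinRoot.powerBasis hirr.ne_zero
  have hdim : pb.dim = 4 := by simp [pb, AdjoinRoot.powerBasis_dim, Matrix.charpoly_natDegree_eq_dim]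
  haveI : Module.Finite F K := pb.finite
  haveI : Finite K := Module.finite_of_finite F
  -- the centraliser of M is the image of ψ
  have hcent : ∀ N : Matrix (Fin 4) (Fin 4) F, N * M = M * N → ∃ k, ψ k = N := by
    intro N hN
    let v : Fin 4 → F := Pi.single 0 1
    have hv : v ≠ 0 := by simp [v]
    let L : K →ₗ[F] (Fin 4 → F) :=
      { toFun := fun k => ψ k *ᵥ v
        map_add' := fun a b => by simp [Matrix.add_mulVec]
        map_smul' := fun c a => by simp [Matrix.smul_mulVec] }
    have hLi : Function.Injective L := by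
      rw [← LinearMap.ker_eq_bot, LinearMap.ker_eq_bot']
      intro k hk
      by_contra hk0
      apply hv
      have e : ψ k⁻¹ *ᵥ (ψ k *ᵥ v) = v := by
        rw [Matrix.mulVec_mulVec, ← map_mul, inv_mul_cancel₀ hk0, map_one, Matrix.one_mulVec]
      rw [← e, show ψ k *ᵥ v = 0 from hk, Matrix.mulVec_zero]
    have hLs : Function.Surjective L :=
      (LinearMap.injective_iff_surjective_of_finrank_eq_finrank (by rw [pb.finrank, hdim]; simp)).1 hLi
    obtain ⟨k, hk⟩ := hLs (N *ᵥ v)
    have hNc : ∀ k', N * ψ k' = ψ k' * N := fun k' => by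
      induction k' using AdjoinRoot.induction_on with
      | ih P =>
        rw [hψm]
        exact (Algebra.commute_of_mem_adjoin_singleton_of_commute (aeval_mem_adjoin_singleton F M) hN).eq
    refine ⟨k, Matrix.ext_of_mulVec_single fun i => ?_⟩
    obtain ⟨k', hk'⟩ := hLs (Pi.single i 1)
    rw [← hk', show L k' = ψ k' *ᵥ v from rfl, Matrix.mulVec_mulVec, Matrix.mulVec_mulVec, ← map_mul, mul_comm,
      map_mul, hNc, ← Matrix.mulVec_mulVec, ← Matrix.mulVec_mulVec, show ψ k *ᵥ v = L k from rfl, hk]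
  have hC : ∀ x : G, x ∈ Subgroup.centralizer ({g} : Set G) ↔ ι x * M = M * ι x := fun x => by
    rw [Subgroup.mem_centralizer_singleton_iff, hMdef, ← map_mul, ← map_mul]
    exact ⟨fun h => congrArg ι h, fun h => hι h⟩
  choose e he using fun x : Subgroup.centralizer ({g} : Set G) => hcent (ι x) ((hC x).1 x.2)
  let eh : Subgroup.centralizer ({g} : Set G) →* K :=
    { toFun := e
      map_one' := hψi (by rw [he, map_one]; simp)
      map_mul' := fun x y => hψi (by rw [map_mul, he, he, he, Subgroup.coe_mul, map_mul]) }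
  have hcyc : IsCyclic (Subgroup.centralizer ({g} : Set G)) :=
    isCyclic_of_subgroup_isDomain eh fun x y h => Subtype.ext (hι (by rw [← he, ← he]; exact congrArg ψ h))
  refine ⟨hcyc, ?_⟩
  -- the normaliser acts by field automorphisms
  set C := Subgroup.centralizer ({g} : Set G)
  set N := Subgroup.normalizer (C : Set G)
  have hconj : ∀ (x : N) (k : K), ∃ k', ψ k' = ι x * ψ k * ι (x : G)⁻¹ := by
    intro x k
    refine hcent _ ?_
    have hgx : (x : G)⁻¹ * g * (x : G) ∈ C := (Subgroup.mem_normalizer_iff''.1 x.2 g).1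
      (Subgroup.mem_centralizer_singleton_iff.2 rfl)
    obtain ⟨k1, hk1⟩ := hcent _ ((hC _).1 hgx)
    have e1 : ι (x : G)⁻¹ * M = ψ k1 * ι (x : G)⁻¹ := by
      rw [hk1, hMdef, ← map_mul, ← map_mul]; congr 1; group
    have e2 : ι (x : G) * ψ k1 = M * ι (x : G) := by
      rw [hk1, hMdef, ← map_mul, ← map_mul]; congr 1; group
    calc ι (x : G) * ψ k * ι (x : G)⁻¹ * M = ι (x : G) * (ψ k * ψ k1) * ι (x : G)⁻¹ := by
          rw [mul_assoc (ι (x : G) * ψ k), e1]; simp only [mul_assoc]
      _ = ι (x : G) * (ψ k1 * ψ k) * ι (x : G)⁻¹ := by rw [← map_mul, ← map_mul, mul_comm k k1]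
      _ = M * (ι (x : G) * ψ k * ι (x : G)⁻¹) := by rw [← mul_assoc (ι (x : G)), e2]; simp only [mul_assoc]
  choose θ hθ using hconj
  have hinv : ∀ x : G, ι x⁻¹ * ι x = 1 := fun x => by rw [← map_mul, inv_mul_cancel, map_one]
  have hθ1 : ∀ x, θ x 1 = 1 := fun x => hψi (by
    rw [hθ, map_one, mul_one, ← map_mul, mul_inv_cancel, map_one])
  have hθmul : ∀ x a b, θ x (a * b) = θ x a * θ x b := fun x a b => hψi (by
    simp only [map_mul, hθ, mul_assoc]
    rw [← mul_assoc (ι (x : G)⁻¹) (ι (x : G)), hinv, one_mul])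
  have hθadd : ∀ x a b, θ x (a + b) = θ x a + θ x b := fun x a b => hψi (by
    simp only [map_add, hθ, mul_add, add_mul])
  have hθzero : ∀ x, θ x 0 = 0 := fun x => hψi (by simp [hθ])
  have hθalg : ∀ x c, θ x (algebraMap F K c) = algebraMap F K c := fun x c => hψi (by
    rw [hθ, AlgHom.commutes, Algebra.algebraMap_eq_smul_one, mul_smul_comm, smul_mul_assoc, mul_one, ← map_mul,
      mul_inv_cancel, map_one])
  let Θ : N → (K →ₐ[F] K) := fun x =>
    { toFun := θ x
      map_one' := hθ1 x
      map_mul' := hθmul x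
      map_zero' := hθzero x
      map_add' := hθadd x
      commutes' := hθalg x }
  let φ : N →* (K →ₐ[F] K) :=
    { toFun := Θ
      map_one' := AlgHom.ext fun k => hψi (by
        show ψ (θ 1 k) = ψ k
        rw [hθ]
        simp)
      map_mul' := fun x y => AlgHom.ext fun k => hψi (by
        show ψ (θ (x * y) k) = ψ (θ x (θ y k))
        rw [hθ, hθ, hθ, Subgroup.coe_mul, _root_.mul_inv_rev, map_mul, map_mul]
        simp only [mul_assoc]) }
  let φ' : N →* (K ≃ₐ[F] K) :=
    { toFun := fun x => AlgEquiv.ofBijective (φ x) ((φ x).bijective)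
      map_one' := AlgEquiv.ext fun k => by
        show φ 1 k = k
        rw [map_one]; rfl
      map_mul' := fun x y => AlgEquiv.ext fun k => by
        show φ (x * y) k = φ x (φ y k)
        rw [map_mul]; rfl }
  haveI : Finite (K ≃ₐ[F] K) := Finite.of_injective _ DFunLike.coe_injective
  have hker : φ'.ker = C.subgroupOf N := by
    ext x
    rw [MonoidHom.mem_ker, Subgroup.mem_subgroupOf, hC]
    constructor
    · intro hx
      have h1 : θ x (AdjoinRoot.root _) = AdjoinRoot.root _ := congrArg (fun a => a (AdjoinRoot.root _)) hx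
      have h2 := hθ x (AdjoinRoot.root _)
      rw [h1, hψr] at h2
      conv_rhs => rw [h2]
      rw [mul_assoc, hinv, mul_one]
    · intro hx
      refine AlgEquiv.coe_toAlgHom_injective (AdjoinRoot.algHom_ext (hψi ?_))
      show ψ (θ x (AdjoinRoot.root _)) = ψ (AdjoinRoot.root _)
      rw [hθ, hψr, hx, mul_assoc, ← map_mul, mul_inv_cancel, map_one, mul_one]
  have h4 : Nat.card (K ≃ₐ[F] K) = 4 := by
    rw [IsGalois.card_aut_eq_finrank, pb.finrank, hdim]
  refine ⟨Nat.card φ'.range, by have := Subgroup.card_subgroup_dvd_card φ'.range; rwa [h4] at this, ?_⟩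
  have hCN : C ≤ N := Subgroup.le_normalizer
  rw [Subgroup.card_eq_card_quotient_mul_card_subgroup φ'.ker,
    Nat.card_congr (QuotientGroup.quotientKerEquivRange φ').toEquiv, hker,
    Nat.card_congr (Subgroup.subgroupOfEquivOfLe hCN).toEquiv]

end CfsgLib.Suz
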