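import Cfsg.Agent.Suz.Props
import Cfsg.Agent.Suz.Singer
import Mathlib.GroupTheory.Nilpotent

/-!
The maximal tori of orders `q ± 2r + 1` of the Suzuki group, found by counting fixed-point-free elements.
-/

set_option autoImplicit false
set_option linter.unusedSectionVars false
set_option linter.style.haveILetI false

namespace CfsgLib.Suz

open Pointwise

variable {F : Type*} [Field F] [Fintype F] {m : ℕ}

/-- no fixed point on the ovoid -/
def Fpf (g : Cfsg.Sz F m) : Prop := ∀ p : Cfsg.suzukiOvoid F m, g • p ≠ p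

/-- centralisers of elements of prime order dividing `q² + 1` -/
def IsTorus (U : Subgroup (Cfsg.Sz F m)) : Prop :=
  ∃ (p : ℕ) (y : Cfsg.Sz F m), p.Prime ∧ p ∣ Fintype.card F ^ 2 + 1 ∧ orderOf y = p ∧
    U = Subgroup.centralizer ({y} : Set (Cfsg.Sz F m))

/-- non-identity elements conjugate into a subgroup -/
def cover (U : Subgroup (Cfsg.Sz F m)) : Set (Cfsg.Sz F m) :=
  {g | g ≠ 1 ∧ ∃ x : Cfsg.Sz F m, x * g * x⁻¹ ∈ U}

namespace Setup

variable (A : Setup F m)

include A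

theorem q_facts : 8 ≤ Fintype.card F ∧ Even (Fintype.card F) := by
  rw [A.card]
  refine ⟨le_trans (le_of_eq (by norm_num)) (Nat.pow_le_pow_right two_pos (show 3 ≤ 2 * m + 1 by have := A.hm; omega)),
    Nat.even_pow.2 ⟨even_two, by omega⟩⟩

theorem card_G : Nat.card (Cfsg.Sz F m) =
    Fintype.card F ^ 2 * (Fintype.card F ^ 2 + 1) * (Fintype.card F - 1) := by rw [A.card_Sz, A.card]

theorem odd_N {l : ℕ} (h : l ∣ Fintype.card F ^ 2 + 1) (h2 : l = 2) : False := by
  subst h2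
  rw [← even_iff_two_dvd, Nat.even_add_one] at h
  exact h (Nat.even_pow.2 ⟨A.q_facts.2, by norm_num⟩)

theorem cop4 : Nat.Coprime (Fintype.card F ^ 2 + 1) 4 :=
  show Nat.Coprime _ (2 ^ 2) from Nat.Coprime.pow_right 2 ((Nat.Prime.coprime_iff_not_dvd Nat.prime_two).2
    fun h => A.odd_N h rfl).symm

theorem not_three {l : ℕ} (h : l ∣ Fintype.card F ^ 2 + 1) : l ≠ 3 := by
  rintro rfl
  have hz : ((Fintype.card F ^ 2 + 1 : ℕ) : ZMod 3) = 0 := (ZMod.natCast_eq_zero_iff _ _).2 h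
  push_cast at hz
  revert hz
  generalize (Fintype.card F : ZMod 3) = t
  revert t
  decide

theorem cop_sub : Nat.Coprime (Fintype.card F ^ 2 + 1) (Fintype.card F - 1) := by
  refine Nat.coprime_of_dvd' fun l hl h1 h2 => ?_
  exfalso
  refine A.odd_N h1 ?_
  have h3 : l ∣ (Fintype.card F - 1) * (Fintype.card F + 1) := h2.mul_right _
  have e : Fintype.card F ^ 2 + 1 = (Fintype.card F - 1) * (Fintype.card F + 1) + 2 := by
    obtain ⟨k, hk⟩ : ∃ k, Fintype.card F = k + 1 := ⟨_, (Nat.succ_pred_eq_of_pos Fintype.card_pos).symm⟩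
    rw [hk, Nat.add_sub_cancel]; ring
  rw [e, Nat.dvd_add_right h3] at h1
  exact (Nat.prime_dvd_prime_iff_eq hl Nat.prime_two).1 h1

theorem T_pow4 (a b : F) : A.T a b ^ 4 = 1 := by
  rw [pow_succ, pow_succ, pow_succ, pow_one, mul_assoc, A.T_sq, A.T_sq_eq_one.2 rfl]

theorem fix_two {g : Cfsg.Sz F m} {a b : Cfsg.suzukiOvoid F m} (hab : a ≠ b) (ha : g • a = a) (hb : g • b = b) :
    ∃ x k, x * g * x⁻¹ = A.H k ∧ x • a = inf F m ∧ x • b = pt m 0 0 := by
  obtain ⟨x, h1, h2⟩ := A.move_two hab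
  obtain ⟨k, hk⟩ := A.fix_two_val (g := x * g * x⁻¹)
    (by rw [mul_smul, mul_smul, inv_smul_eq_iff.2 h1.symm, ha, h1])
    (by rw [mul_smul, mul_smul, inv_smul_eq_iff.2 h2.symm, hb, h2])
  exact ⟨x, k, hk, h1, h2⟩

theorem three_fix {g : Cfsg.Sz F m} {a b c : Cfsg.suzukiOvoid F m} (hab : a ≠ b) (hbc : b ≠ c) (hac : a ≠ c)
    (ha : g • a = a) (hb : g • b = b) (hc : g • c = c) : g = 1 :=
  A.zassenhaus.2.2.1 g a b c hab hbc hac ha hb hc

theorem classify (g : Cfsg.Sz F m) :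
    Fpf g ∨ (∃ x a b, x * g * x⁻¹ = A.T a b) ∨ ∃ x k, x * g * x⁻¹ = A.H k := by
  by_cases h : Fpf g
  · exact Or.inl h
  refine Or.inr ?_
  simp only [Fpf, not_forall, not_not] at h
  obtain ⟨p, hp⟩ := h
  obtain ⟨x, hx⟩ := A.move p
  have hO : (x * g * x⁻¹) • inf F m = inf F m := by
    rw [mul_smul, mul_smul, inv_smul_eq_iff.2 hx.symm, hp, hx]
  obtain ⟨a, b, k, hk⟩ := A.stab_inf hO
  by_cases hk1 : k = 1
  · subst hk1
    rw [A.H_one, mul_one] at hk
    exact Or.inl ⟨x, a, b, hk⟩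
  refine Or.inr ?_
  have hk' : (1 : F) + k ≠ 0 := fun e => hk1 (Units.ext (by
    rw [Units.val_one]; linear_combination e - A.two0))
  have hu : (1 : F) + sg m (k : F) * k ≠ 0 := fun e => by
    have e1 : sg m (k : F) * k = 1 := by linear_combination e - A.two0
    have e2 := congrArg (sg m) e1
    rw [A.sg_mul, A.sg_sg, A.sg_one] at e2
    exact hk1 (Units.ext (by rw [Units.val_one]; linear_combination e2 - (k : F) * e1))
  set X := a / (1 + k)
  set Y := (sg m a * (k * X) + b) / (1 + sg m (k : F) * k)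
  have hfix : (x * g * x⁻¹) • pt m X Y = pt m X Y := by
    rw [hk, mul_smul, A.H_pt, A.T_pt]
    have eX : X * (1 + k) = a := div_mul_cancel₀ _ hk'
    have eY : Y * (1 + sg m (k : F) * k) = sg m a * (k * X) + b := div_mul_cancel₀ _ hu
    congr 1
    · linear_combination (k : F) * X * A.two0 - eX
    · linear_combination sg m (k : F) * k * Y * A.two0 - eY
  obtain ⟨y, j, hj, -, -⟩ := A.fix_two (pt_ne_inf m X Y).symm hO hfix
  exact ⟨y * x, j, by rw [← hj]; group⟩

theorem fpf_conj {g : Cfsg.Sz F m} (h : Fpf g) (x : Cfsg.Sz F m) : Fpf (x * g * x⁻¹) := fun p hp => by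
  rw [mul_smul, mul_smul, ← eq_inv_smul_iff] at hp
  exact h _ hp

theorem order_of_fixes {g : Cfsg.Sz F m} (h : ¬Fpf g) :
    orderOf g ∣ 4 ∨ orderOf g ∣ Fintype.card F - 1 := by
  rcases A.classify g with h' | ⟨x, a, b, e⟩ | ⟨x, k, e⟩
  · exact absurd h' h
  · left
    have e' : MulAut.conj x g = A.T a b := by rw [MulAut.conj_apply, e]
    rw [← MulEquiv.orderOf_eq (MulAut.conj x), e']
    refine orderOf_dvd_of_pow_eq_one ?_
    exact A.T_pow4 a b
  · right
    classical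
    have e' : MulAut.conj x g = A.H k := by rw [MulAut.conj_apply, e]
    rw [← MulEquiv.orderOf_eq (MulAut.conj x), e']
    refine orderOf_dvd_of_pow_eq_one ?_
    rw [show A.H k = A.hHom k from rfl, ← map_pow, ← Fintype.card_units, pow_card_eq_one, map_one]

theorem fpf_of_dvd {g : Cfsg.Sz F m} (h1 : g ≠ 1) (h : orderOf g ∣ Fintype.card F ^ 2 + 1) : Fpf g := by
  by_contra hf
  apply h1
  rw [← orderOf_eq_one_iff]
  rcases A.order_of_fixes hf with h' | h'
  · exact Nat.eq_one_of_dvd_coprimes A.cop4 h h'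
  · exact Nat.eq_one_of_dvd_coprimes A.cop_sub h h'

theorem fix_of_comm {y g : Cfsg.Sz F m} {a : Cfsg.suzukiOvoid F m} (hy : y ≠ 1) (hc : Commute g y)
    (hodd : Odd (orderOf g)) (ha : y • a = a) : g • a = a := by
  have h1 : ∀ b : Cfsg.suzukiOvoid F m, y • b = b → y • (g • b) = g • b := fun b hb => by rw [← mul_smul, ← hc.eq, mul_smul, hb]
  by_contra hne
  have h2 : g • (g • a) = a := by
    by_contra h3
    exact hy (A.three_fix (Ne.symm hne) (fun e => hne (MulAction.injective g e).symm) (Ne.symm h3) ha (h1 _ ha) (h1 _ (h1 _ ha)))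
  obtain ⟨k, hk⟩ := hodd
  have h4 : ∀ i : ℕ, g ^ (2 * i) • a = a := fun i => by
    induction i with
    | zero => simp
    | succ i ih => rw [mul_add, pow_add, mul_smul, mul_one, sq, mul_smul, h2, ih]
  apply hne
  have e : g ^ (2 * (k + 1)) = g := by
    rw [show 2 * (k + 1) = orderOf g + 1 by omega, pow_succ, pow_orderOf_eq_one, one_mul]
  rw [← e]
  exact h4 _

theorem fix_point_of_prime {l : ℕ} (hl : l.Prime) {y : Cfsg.Sz F m} (hy : orderOf y = l)
    (hN : ¬l ∣ Fintype.card F ^ 2 + 1) : ∃ a : Cfsg.suzukiOvoid F m, y • a = a := by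
  haveI : Fact l.Prime := ⟨hl⟩
  have hp : IsPGroup l (Subgroup.zpowers y) := IsPGroup.of_card (n := 1) (by rw [Nat.card_zpowers, hy, pow_one])
  obtain ⟨a, ha⟩ := hp.nonempty_fixed_point_of_prime_not_dvd_card (Cfsg.suzukiOvoid F m) (by rwa [card_ovoid])
  exact ⟨a, ha ⟨y, Subgroup.mem_zpowers y⟩⟩

theorem prime_dvd_of_fpf {g : Cfsg.Sz F m} (h : Fpf g) {l : ℕ} (hl : l.Prime) (hlg : l ∣ orderOf g) :
    l ∣ Fintype.card F ^ 2 + 1 := by
  by_contra hN
  have hodd : Odd (orderOf g) := by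
    rw [← Nat.not_even_iff_odd, even_iff_two_dvd]
    intro h2
    have hd : orderOf g / 2 ∣ orderOf g := Nat.div_dvd_of_dvd h2
    have hy : orderOf (g ^ (orderOf g / 2)) = 2 := by
      have h0 : orderOf g / 2 ≠ 0 := by
        have := Nat.le_of_dvd (orderOf_pos g) h2
        omega
      rw [orderOf_pow_of_dvd h0 hd, Nat.div_div_self h2 (orderOf_pos g).ne']
    obtain ⟨a, ha⟩ := A.fix_point_of_prime Nat.prime_two hy (fun h => A.odd_N h rfl)
    refine h a (by_contra fun hne => ?_)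
    have hb : g ^ (orderOf g / 2) • (g • a) = g • a := by
      rw [← mul_smul, ← pow_succ, pow_succ', mul_smul, ha]
    obtain ⟨x, k, hk, -, -⟩ := A.fix_two (fun e => hne e.symm) ha hb
    have e : orderOf (A.H k) = 2 := by rw [← hk, ← MulAut.conj_apply, MulEquiv.orderOf_eq, hy]
    have e2 : (k : F) ^ 2 = 1 := by
      have := congrArg (fun n => A.H k ^ n) e
      simp only [pow_orderOf_eq_one] at this
      rw [show A.H k = A.hHom k from rfl, ← map_pow, ← A.H_one] at this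
      exact (congrArg Units.val (A.H_inj this)).symm
    haveI := A.char2
    have : k = 1 := Units.ext (CharTwo.sq_injective (show (k : F) ^ 2 = (1 : F) ^ 2 by rw [e2, one_pow]))
    rw [this, A.H_one, orderOf_one] at e
    omega
  have hd : orderOf g / l ∣ orderOf g := Nat.div_dvd_of_dvd hlg
  have hy : orderOf (g ^ (orderOf g / l)) = l := by
    have h0 : orderOf g / l ≠ 0 := Nat.div_ne_zero_iff.2 ⟨hl.ne_zero, Nat.le_of_dvd (orderOf_pos g) hlg⟩
    rw [orderOf_pow_of_dvd h0 hd, Nat.div_div_self hlg (orderOf_pos g).ne']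
  obtain ⟨a, ha⟩ := A.fix_point_of_prime hl hy hN
  exact h a (A.fix_of_comm (fun e => by rw [e, orderOf_one] at hy; exact hl.ne_one hy.symm) (Commute.self_pow g _) hodd ha)

theorem torus_mem {g : Cfsg.Sz F m} (h : Fpf g) : ∃ U, IsTorus U ∧ g ∈ U := by
  have hne : orderOf g ≠ 1 := fun e => h (inf F m) (by rw [orderOf_eq_one_iff.1 e, one_smul])
  obtain ⟨l, hl, hlg⟩ := Nat.exists_prime_and_dvd hne
  refine ⟨Subgroup.centralizer {g ^ (orderOf g / l)}, ⟨l, _, hl, A.prime_dvd_of_fpf h hl hlg, ?_, rfl⟩,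
    Subgroup.mem_centralizer_singleton_iff.2 (Commute.self_pow g _).eq⟩
  have h0 : orderOf g / l ≠ 0 := Nat.div_ne_zero_iff.2 ⟨hl.ne_zero, Nat.le_of_dvd (orderOf_pos g) hlg⟩
  rw [orderOf_pow_of_dvd h0 (Nat.div_dvd_of_dvd hlg), Nat.div_div_self hlg (orderOf_pos g).ne']

theorem torus_singer {U : Subgroup (Cfsg.Sz F m)} (hU : IsTorus U) :
    IsCyclic U ∧ ∃ n : ℕ, n ∣ 4 ∧ Nat.card (Subgroup.normalizer (U : Set (Cfsg.Sz F m))) = n * Nat.card U := by
  obtain ⟨p, y, hp, hpN, hy, rfl⟩ := hU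
  haveI : Fact p.Prime := ⟨hp⟩
  haveI := A.char2
  let ι : Cfsg.Sz F m →* Matrix (Fin 4) (Fin 4) F :=
    { toFun := fun g => ((g : Matrix.SpecialLinearGroup (Fin 4) F) : Matrix (Fin 4) (Fin 4) F)
      map_one' := rfl
      map_mul' := fun _ _ => rfl }
  exact singer ι (fun a b h => Subtype.ext (Subtype.ext h)) (fun e => A.odd_N hpN e) hpN hy

theorem torus_fpf {U : Subgroup (Cfsg.Sz F m)} (hU : IsTorus U) {u : Cfsg.Sz F m} (hu : u ∈ U) (h1 : u ≠ 1) :
    Fpf u := by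
  obtain ⟨p, y, hp, hpN, hy, rfl⟩ := hU
  intro a ha
  have hodd : Odd (orderOf y) := hy ▸ hp.odd_of_ne_two (fun e => A.odd_N hpN e)
  have := A.fix_of_comm h1 (show Commute y u from (Subgroup.mem_centralizer_singleton_iff.1 hu).symm) hodd ha
  exact A.fpf_of_dvd (fun e => by rw [e, orderOf_one] at hy; exact hp.ne_one hy.symm) (by rw [hy]; exact hpN) a this

theorem torus_cent {U : Subgroup (Cfsg.Sz F m)} (hU : IsTorus U) {u : Cfsg.Sz F m} (hu : u ∈ U) (h1 : u ≠ 1) :
    Subgroup.centralizer ({u} : Set (Cfsg.Sz F m)) = U := by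
  have hcyc := (A.torus_singer hU).1
  have hab : ∀ a ∈ U, ∀ b ∈ U, a * b = b * a := fun a ha b hb =>
    congrArg Subtype.val ((isMulCommutative_iff.1 (inferInstance : IsMulCommutative U)) ⟨a, ha⟩ ⟨b, hb⟩)
  obtain ⟨p, y, hp, hpN, hy, e⟩ := hU
  have hne : orderOf u ≠ 1 := fun h => h1 (orderOf_eq_one_iff.1 h)
  obtain ⟨l, hl, hlu⟩ := Nat.exists_prime_and_dvd hne
  have hlN := A.prime_dvd_of_fpf (A.torus_fpf ⟨p, y, hp, hpN, hy, e⟩ hu h1) hl hlu
  set y' := u ^ (orderOf u / l)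
  have hy' : orderOf y' = l := by
    have h0 : orderOf u / l ≠ 0 := Nat.div_ne_zero_iff.2 ⟨hl.ne_zero, Nat.le_of_dvd (orderOf_pos u) hlu⟩
    rw [orderOf_pow_of_dvd h0 (Nat.div_dvd_of_dvd hlu), Nat.div_div_self hlu (orderOf_pos u).ne']
  have hU' : IsTorus (Subgroup.centralizer {y'}) := ⟨l, y', hl, hlN, hy', rfl⟩
  have hcyc' := (A.torus_singer hU').1
  have hyU : y ∈ U := e ▸ Subgroup.mem_centralizer_singleton_iff.2 rfl
  have hyy' : y ∈ Subgroup.centralizer ({y'} : Set (Cfsg.Sz F m)) :=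
    Subgroup.mem_centralizer_singleton_iff.2 (hab y hyU y' (pow_mem hu _))
  refine le_antisymm (fun z hz => ?_) fun z hz => Subgroup.mem_centralizer_singleton_iff.2 (hab z hz u hu)
  have hz' : z ∈ Subgroup.centralizer ({y'} : Set (Cfsg.Sz F m)) :=
    Subgroup.mem_centralizer_singleton_iff.2 ((show Commute z u from Subgroup.mem_centralizer_singleton_iff.1 hz).pow_right _).eq
  rw [e]
  exact Subgroup.mem_centralizer_singleton_iff.2
    (congrArg Subtype.val ((isMulCommutative_iff.1 (inferInstance : IsMulCommutative (Subgroup.centralizer ({y'} : Set (Cfsg.Sz F m))))) ⟨z, hz'⟩ ⟨y, hyy'⟩))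

theorem torus_eq {U V : Subgroup (Cfsg.Sz F m)} (hU : IsTorus U) (hV : IsTorus V) {u : Cfsg.Sz F m}
    (hu : u ∈ U) (hv : u ∈ V) (h1 : u ≠ 1) : U = V :=
  (A.torus_cent hU hu h1).symm.trans (A.torus_cent hV hv h1)

theorem torus_nontriv {U : Subgroup (Cfsg.Sz F m)} (hU : IsTorus U) : ∃ y ∈ U, y ≠ 1 := by
  obtain ⟨p, y, hp, -, hy, rfl⟩ := hU
  exact ⟨y, Subgroup.mem_centralizer_singleton_iff.2 rfl, fun e => by rw [e, orderOf_one] at hy; exact hp.ne_one hy.symm⟩

theorem torus_prime {U : Subgroup (Cfsg.Sz F m)} (hU : IsTorus U) {l : ℕ} (hl : l.Prime) (hlU : l ∣ Nat.card U) :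
    l ∣ Fintype.card F ^ 2 + 1 := by
  haveI : Fact l.Prime := ⟨hl⟩
  obtain ⟨u, hu⟩ := exists_prime_orderOf_dvd_card' l hlU
  rw [← Subgroup.orderOf_coe] at hu
  refine A.prime_dvd_of_fpf (A.torus_fpf hU u.2 fun e => ?_) hl (by rw [hu])
  rw [e, orderOf_one] at hu
  exact hl.ne_one hu.symm

theorem torus_dvd {U : Subgroup (Cfsg.Sz F m)} (hU : IsTorus U) : Nat.card U ∣ Fintype.card F ^ 2 + 1 := by
  have h1 : Nat.Coprime (Nat.card U) (Fintype.card F ^ 2) := Nat.coprime_of_dvd' fun l hl h h' => by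
    have h2 := A.torus_prime hU hl h
    exact (Nat.dvd_add_right h').1 h2
  have h2 : Nat.Coprime (Nat.card U) (Fintype.card F - 1) := Nat.coprime_of_dvd' fun l hl h h' =>
    (Nat.eq_one_of_dvd_coprimes A.cop_sub (A.torus_prime hU hl h) h') ▸ dvd_rfl
  have := U.card_subgroup_dvd_card
  rw [A.card_G] at this
  exact h1.dvd_of_dvd_mul_left (h2.dvd_of_dvd_mul_right this)

theorem torus_ge {U : Subgroup (Cfsg.Sz F m)} (hU : IsTorus U) : 5 ≤ Nat.card U := by
  obtain ⟨p, y, hp, hpN, hy, rfl⟩ := hU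
  have : p ∣ Nat.card (Subgroup.centralizer ({y} : Set (Cfsg.Sz F m))) := by
    have := orderOf_dvd_natCard (⟨y, Subgroup.mem_centralizer_singleton_iff.2 rfl⟩ :
      Subgroup.centralizer ({y} : Set (Cfsg.Sz F m)))
    rwa [← Subgroup.orderOf_coe, hy] at this
  refine le_trans ?_ (Nat.le_of_dvd Nat.card_pos this)
  have h2 := hp.two_le
  have h3 := A.not_three hpN
  have h4 : p ≠ 2 := fun e => A.odd_N hpN e
  have h5 : p ≠ 4 := by rintro rfl; norm_num at hp
  omega

theorem sylow_cyclic_N {l : ℕ} [Fact l.Prime] (hlN : l ∣ Fintype.card F ^ 2 + 1) (P : Sylow l (Cfsg.Sz F m)) :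
    IsCyclic P ∧ ∃ U, IsTorus U ∧ (P : Subgroup (Cfsg.Sz F m)) ≤ U := by
  have hlG : l ∣ Nat.card (Cfsg.Sz F m) := by rw [A.card_G]; exact (hlN.mul_left _).mul_right _
  have hPne := P.ne_bot_of_dvd_card hlG
  haveI : Nontrivial P := (Subgroup.nontrivial_iff_ne_bot _).2 hPne
  obtain ⟨z, hz, hz'⟩ : ∃ z : P, z ∈ Subgroup.center P ∧ orderOf z = l := by
    have hc : l ∣ Nat.card (Subgroup.center P) := by
      haveI := P.2.center_nontrivial
      obtain ⟨k, hk, e⟩ := (P.2.to_subgroup (Subgroup.center P)).nontrivial_iff_card.1 inferInstance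
      rw [e]; exact dvd_pow_self _ hk.ne'
    obtain ⟨z, hz⟩ := exists_prime_orderOf_dvd_card' l hc
    exact ⟨z, z.2, (Subgroup.orderOf_coe z).trans hz⟩
  have hU : IsTorus (Subgroup.centralizer ({(z : Cfsg.Sz F m)} : Set (Cfsg.Sz F m))) :=
    ⟨l, z, Fact.out, hlN, (Subgroup.orderOf_coe z).trans hz', rfl⟩
  have hle : (P : Subgroup (Cfsg.Sz F m)) ≤ Subgroup.centralizer ({(z : Cfsg.Sz F m)} : Set (Cfsg.Sz F m)) :=
    fun x hx => Subgroup.mem_centralizer_singleton_iff.2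
      (congrArg Subtype.val (Subgroup.mem_center_iff.1 hz ⟨x, hx⟩))
  haveI := (A.torus_singer hU).1
  exact ⟨isCyclic_of_injective (Subgroup.inclusion hle) (Subgroup.inclusion_injective hle), _, hU, hle⟩

theorem torus_sylow {U : Subgroup (Cfsg.Sz F m)} (hU : IsTorus U) {l : ℕ} [Fact l.Prime] (hlU : l ∣ Nat.card U) :
    ∃ P : Sylow l (Cfsg.Sz F m), (P : Subgroup (Cfsg.Sz F m)) ≤ U := by
  obtain ⟨u, hu⟩ := exists_prime_orderOf_dvd_card' l hlU
  rw [← Subgroup.orderOf_coe] at hu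
  obtain ⟨P, hP⟩ := (IsPGroup.of_card (p := l) (n := 1) (G := Subgroup.zpowers (u : Cfsg.Sz F m))
    (by rw [Nat.card_zpowers, hu, pow_one])).exists_le_sylow
  obtain ⟨-, V, hV, hPV⟩ := A.sylow_cyclic_N (A.torus_prime hU Fact.out hlU) P
  refine ⟨P, ?_⟩
  rwa [A.torus_eq hU hV u.2 (hPV (hP (Subgroup.mem_zpowers _))) fun e => by
    rw [e, orderOf_one] at hu
    exact (Fact.out : l.Prime).ne_one hu.symm]

theorem torus_map {U : Subgroup (Cfsg.Sz F m)} (hU : IsTorus U) (x : Cfsg.Sz F m) :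
    IsTorus (U.map (MulAut.conj x).toMonoidHom) := by
  obtain ⟨p, y, hp, hpN, hy, rfl⟩ := hU
  refine ⟨p, MulAut.conj x y, hp, hpN, by rw [MulEquiv.orderOf_eq, hy], ?_⟩
  ext z
  rw [Subgroup.mem_map_equiv, Subgroup.mem_centralizer_singleton_iff, Subgroup.mem_centralizer_singleton_iff,
    ← (MulAut.conj x).injective.eq_iff, map_mul, map_mul, MulEquiv.apply_symm_apply]

theorem torus_conj {U V : Subgroup (Cfsg.Sz F m)} (hU : IsTorus U) (hV : IsTorus V) {l : ℕ} (hl : l.Prime)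
    (h1 : l ∣ Nat.card U) (h2 : l ∣ Nat.card V) : ∃ x : Cfsg.Sz F m, V = U.map (MulAut.conj x).toMonoidHom := by
  haveI : Fact l.Prime := ⟨hl⟩
  obtain ⟨P, hP⟩ := A.torus_sylow hU h1
  obtain ⟨Q, hQ⟩ := A.torus_sylow hV h2
  obtain ⟨x, hx⟩ := MulAction.exists_smul_eq (Cfsg.Sz F m) P Q
  refine ⟨x, ?_⟩
  have hPne := P.ne_bot_of_dvd_card (h1.trans U.card_subgroup_dvd_card)
  obtain ⟨z, hz, hz1⟩ := (Subgroup.bot_or_exists_ne_one _).resolve_left hPne
  refine A.torus_eq hV (A.torus_map hU x) (u := MulAut.conj x z) (hQ ?_) ⟨z, hP hz, rfl⟩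
    (fun e => hz1 ((MulEquiv.map_eq_one_iff _).1 e))
  rw [← hx]
  exact ⟨z, hz, rfl⟩

theorem torus_hall {U : Subgroup (Cfsg.Sz F m)} (hU : IsTorus U) :
    Nat.Coprime (Nat.card U) ((Fintype.card F ^ 2 + 1) / Nat.card U) := by
  refine Nat.coprime_of_dvd' fun l hl h h' => ?_
  haveI : Fact l.Prime := ⟨hl⟩
  obtain ⟨P, hP⟩ := A.torus_sylow hU h
  exfalso
  refine P.not_dvd_index (dvd_trans ?_ (Subgroup.index_dvd_of_le hP))
  obtain ⟨d, hd⟩ := A.torus_dvd hU
  rw [hd, Nat.mul_div_cancel_left _ Nat.card_pos] at h'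
  have hi := U.card_mul_index
  rw [A.card_G, hd] at hi
  have : U.index = Fintype.card F ^ 2 * d * (Fintype.card F - 1) :=
    Nat.eq_of_mul_eq_mul_left (Nat.card_pos (α := U)) (by rw [hi]; ring)
  rw [this]
  exact (h'.mul_left _).mul_right _

theorem torus_cover {U : Subgroup (Cfsg.Sz F m)} (hU : IsTorus U) :
    (cover U).ncard * Nat.card (Subgroup.normalizer (U : Set (Cfsg.Sz F m))) =
      Nat.card (Cfsg.Sz F m) * (Nat.card U - 1) := by
  classical
  set N := Subgroup.normalizer (U : Set (Cfsg.Sz F m))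
  let f : (Cfsg.Sz F m ⧸ N) × {u : U // u ≠ 1} → cover U := fun p =>
    ⟨p.1.out * (p.2.1 : Cfsg.Sz F m) * p.1.out⁻¹, fun e => p.2.2 (Subtype.ext (conj_eq_one_iff.1 e)),
      p.1.out⁻¹, by simp [mul_assoc]⟩
  have hf : Function.Bijective f := by
    constructor
    · rintro ⟨q1, ⟨u1, h1⟩⟩ ⟨q2, ⟨u2, h2⟩⟩ h
      have e : q1.out * (u1 : Cfsg.Sz F m) * q1.out⁻¹ = q2.out * (u2 : Cfsg.Sz F m) * q2.out⁻¹ := congrArg Subtype.val h
      set x := q2.out⁻¹ * q1.out with hx
      have e' : MulAut.conj x (u1 : Cfsg.Sz F m) = (u2 : Cfsg.Sz F m) := by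
        rw [MulAut.conj_apply, show x * (u1 : Cfsg.Sz F m) * x⁻¹ = q2.out⁻¹ * (q1.out * (u1 : Cfsg.Sz F m) * q1.out⁻¹) * q2.out by
          rw [hx]; group, e]
        group
      have hmap : U.map (MulAut.conj x).toMonoidHom = U :=
        A.torus_eq (A.torus_map hU x) hU (u := (u2 : Cfsg.Sz F m)) ⟨u1, u1.2, e'⟩ u2.2 fun he => h2 (Subtype.ext he)
      have hxN : x ∈ N := Subgroup.mem_normalizer_iff.2 fun z => by
        conv_rhs => rw [← hmap, Subgroup.mem_map_equiv]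
        simp [mul_assoc]
      have hq : q1 = q2 := by
        rw [← QuotientGroup.out_eq' q1, ← QuotientGroup.out_eq' q2, QuotientGroup.eq]
        simpa [hx] using N.inv_mem hxN
      subst hq
      exact Prod.ext rfl (Subtype.ext (Subtype.ext (mul_left_cancel (mul_right_cancel e))))
    · rintro ⟨g, hg1, x, hxg⟩
      set q : Cfsg.Sz F m ⧸ N := QuotientGroup.mk x⁻¹
      obtain ⟨n, hn⟩ : ∃ n : N, q.out = x⁻¹ * (n : Cfsg.Sz F m) := QuotientGroup.mk_out_eq_mul N x⁻¹
      refine ⟨⟨q, ⟨⟨q.out⁻¹ * g * q.out, ?_⟩, ?_⟩⟩, Subtype.ext (by simp [f, mul_assoc])⟩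
      · have := (Subgroup.mem_normalizer_iff''.1 n.2 _).1 hxg
        rw [hn]
        simpa [mul_assoc] using this
      · intro e
        have e' : q.out⁻¹ * g * q.out = 1 := congrArg Subtype.val e
        refine hg1 ?_
        rw [show g = q.out * (q.out⁻¹ * g * q.out) * q.out⁻¹ by group, e']
        group
  rw [← Nat.card_coe_set_eq, ← Nat.card_eq_of_bijective f hf, Nat.card_prod, mul_right_comm,
    ← Subgroup.card_eq_card_quotient_mul_card_subgroup]
  congr 1
  haveI := Fintype.ofFinite U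
  rw [Nat.card_eq_fintype_card, Fintype.card_subtype_compl, Fintype.card_subtype_eq, Nat.card_eq_fintype_card]

theorem fix_le_two {g : Cfsg.Sz F m} (hg : g ≠ 1) : Nat.card {p : Cfsg.suzukiOvoid F m // g • p = p} ≤ 2 := by
  classical
  haveI := Fintype.ofFinite {p : Cfsg.suzukiOvoid F m // g • p = p}
  rw [Nat.card_eq_fintype_card]
  by_contra h
  obtain ⟨a, b, c, hab, hac, hbc⟩ := Fintype.two_lt_card_iff.1 (not_le.1 h)
  exact hg (A.three_fix (fun e => hab (Subtype.ext e)) (fun e => hbc (Subtype.ext e))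
    (fun e => hac (Subtype.ext e)) a.2 b.2 c.2)

theorem card_fpf : 2 * {g : Cfsg.Sz F m | Fpf g}.ncard = Fintype.card F ^ 3 * (Fintype.card F - 1) ^ 2 := by
  classical
  haveI := Fintype.ofFinite (Cfsg.suzukiOvoid F m)
  haveI := Fintype.ofFinite (Cfsg.Sz F m)
  haveI := A.isPretransitive
  set Ω := Cfsg.suzukiOvoid F m
  set G := Cfsg.Sz F m
  haveI : Nonempty Ω := ⟨inf F m⟩
  let f : G → ℤ := fun g => ∑ p : Ω, if g • p = p then 1 else 0
  have hcard : ∀ p : Ω, (∑ g : G, if g • p = p then (1 : ℤ) else 0) =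
      (Fintype.card F : ℤ) ^ 2 * (Fintype.card F - 1 : ℕ) := by
    intro p
    obtain ⟨x, hx⟩ := MulAction.exists_smul_eq G (inf F m) p
    subst hx
    rw [Finset.sum_boole, ← Fintype.card_subtype, ← Nat.card_eq_fintype_card]
    have : Nat.card {g : G // g • (x • inf F m) = x • inf F m} = Nat.card (MulAction.stabilizer G (inf F m)) := by
      refine Nat.card_congr (Equiv.subtypeEquiv (MulAut.conj x⁻¹).toEquiv fun g => ?_)
      simp [MulAction.mem_stabilizer_iff, mul_smul, inv_smul_eq_iff]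
    rw [this, A.card_stab, A.card]
    push_cast
    ring
  have hcard2 : ∀ p r : Ω, p ≠ r → (∑ g : G, if g • p = p ∧ g • r = r then (1 : ℤ) else 0) =
      (Fintype.card F - 1 : ℕ) := by
    intro p r hpr
    obtain ⟨x, h1, h2⟩ := A.move_two hpr
    rw [Finset.sum_boole, ← Fintype.card_subtype, ← Nat.card_eq_fintype_card]
    have hb : Function.Bijective (fun k : Fˣ => (⟨x⁻¹ * A.H k * x, by
        rw [mul_smul, mul_smul, h1, A.H_inf, inv_smul_eq_iff, h1], by
        rw [mul_smul, mul_smul, h2, A.H_zero, inv_smul_eq_iff, h2]⟩ : {g : G // g • p = p ∧ g • r = r})) := by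
      refine ⟨fun k k' h => A.H_inj (mul_left_cancel (mul_right_cancel (congrArg Subtype.val h))), ?_⟩
      rintro ⟨g, hg1, hg2⟩
      obtain ⟨k, hk⟩ := A.fix_two_val (g := x * g * x⁻¹)
        (by rw [mul_smul, mul_smul, inv_smul_eq_iff.2 h1.symm, hg1, h1])
        (by rw [mul_smul, mul_smul, inv_smul_eq_iff.2 h2.symm, hg2, h2])
      exact ⟨k, Subtype.ext (by simp [← hk, mul_assoc])⟩
    rw [← Nat.card_eq_of_bijective _ hb, Nat.card_eq_fintype_card, Fintype.card_units]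
  have hN : (Fintype.card Ω : ℤ) = (Fintype.card F : ℤ) ^ 2 + 1 := by
    rw [← Nat.card_eq_fintype_card, card_ovoid]; push_cast; ring
  have hG : (Fintype.card G : ℤ) =
      (Fintype.card F : ℤ) ^ 2 * ((Fintype.card F : ℤ) ^ 2 + 1) * (Fintype.card F - 1 : ℕ) := by
    rw [← Nat.card_eq_fintype_card, A.card_G]; push_cast; ring
  have s1 : ∑ g, f g = (Fintype.card G : ℤ) := by
    rw [Finset.sum_comm, Finset.sum_congr rfl fun p _ => hcard p, Finset.sum_const, Finset.card_univ,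
      nsmul_eq_mul, hN, hG]
    ring
  have s2 : ∑ g, f g ^ 2 = 2 * (Fintype.card G : ℤ) := by
    simp only [f, sq, Finset.sum_mul_sum, ite_zero_mul_ite_zero, mul_one]
    rw [Finset.sum_comm, Finset.sum_congr rfl fun p _ => Finset.sum_comm]
    have h : ∀ p : Ω, ∑ r : Ω, (∑ g : G, if g • p = p ∧ g • r = r then (1 : ℤ) else 0) =
        (Fintype.card F : ℤ) ^ 2 * (Fintype.card F - 1 : ℕ) * 2 := fun p => by
      rw [Finset.sum_eq_sum_sdiff_singleton_add (Finset.mem_univ p), Finset.sum_congr rfl fun r hr => hcard2 p r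
        (fun e => (Finset.mem_sdiff.1 hr).2 (Finset.mem_singleton.2 e.symm))]
      simp only [and_self, hcard, Finset.sum_const, nsmul_eq_mul,
        Finset.card_sdiff_of_subset (Finset.subset_univ _), Finset.card_univ, Finset.card_singleton]
      rw [Nat.cast_sub Fintype.card_pos, hN]
      push_cast
      ring
    rw [Finset.sum_congr rfl fun p _ => h p, Finset.sum_const, Finset.card_univ, nsmul_eq_mul, hN, hG]
    ring
  have key : ∀ g : G, (2 : ℤ) * (if Fpf g then 1 else 0) =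
      (f g ^ 2 - 3 * f g + 2) - if g = 1 then ((Fintype.card Ω : ℤ) ^ 2 - 3 * Fintype.card Ω + 2) else 0 := by
    intro g
    by_cases hg : g = 1
    · subst hg
      have : ¬Fpf (1 : G) := fun h => h (inf F m) (one_smul _ _)
      simp [f, this]
    rw [if_neg hg, sub_zero]
    have hf : f g = (Nat.card {p : Ω // g • p = p} : ℤ) := by
      simp only [f]
      rw [Finset.sum_boole, Nat.card_eq_fintype_card, Fintype.card_subtype]
    have h2 : Nat.card {p : Ω // g • p = p} ≤ 2 := A.fix_le_two hg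
    by_cases h : Fpf g
    · have h0 : Nat.card {p : Ω // g • p = p} = 0 := by
        haveI : IsEmpty {p : Ω // g • p = p} := ⟨fun p => h p.1 p.2⟩
        simp
      rw [if_pos h, hf, h0]
      norm_num
    · have h0 : Nat.card {p : Ω // g • p = p} ≠ 0 := by
        simp only [Fpf, not_forall, not_not] at h
        obtain ⟨p, hp⟩ := h
        haveI : Nonempty {p : Ω // g • p = p} := ⟨⟨p, hp⟩⟩
        exact Nat.card_pos.ne'
      rw [if_neg h, hf]
      obtain e | e : Nat.card {p : Ω // g • p = p} = 1 ∨ Nat.card {p : Ω // g • p = p} = 2 := by omega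
      all_goals rw [e]; norm_num
  have h0 := Finset.sum_congr (rfl : (Finset.univ : Finset G) = _) fun g _ => key g
  rw [← Finset.mul_sum, Finset.sum_boole, Finset.sum_sub_distrib, Finset.sum_add_distrib, Finset.sum_sub_distrib,
    ← Finset.mul_sum, s1, s2, Finset.sum_const, Finset.card_univ, Finset.sum_ite_eq' Finset.univ (1 : G),
    if_pos (Finset.mem_univ _), nsmul_eq_mul, hN, hG] at h0
  have hset : {g : G | Fpf g}.ncard = (Finset.univ.filter fun g : G => Fpf g).card := by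
    rw [← Set.ncard_coe_finset]; simp
  rw [hset]
  have hq : ((Fintype.card F - 1 : ℕ) : ℤ) = (Fintype.card F : ℤ) - 1 := by
    rw [Nat.cast_sub Fintype.card_pos]; norm_num
  rw [hq] at h0
  apply Nat.cast_injective (R := ℤ)
  push_cast [hq]
  rw [h0]
  ring

theorem cover_disjoint {U V : Subgroup (Cfsg.Sz F m)} (hU : IsTorus U) (hV : IsTorus V)
    (h : Nat.Coprime (Nat.card U) (Nat.card V)) : Disjoint (cover U) (cover V) := by
  rw [Set.disjoint_left]
  rintro g ⟨g1, x, hx⟩ ⟨-, y, hy⟩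
  apply g1
  rw [← orderOf_eq_one_iff]
  refine Nat.eq_one_of_dvd_coprimes h ?_ ?_
  · rw [← MulEquiv.orderOf_eq (MulAut.conj x)]
    exact orderOf_dvd_natCard (⟨_, hx⟩ : U) |> fun e => by rwa [← Subgroup.orderOf_coe] at e
  · rw [← MulEquiv.orderOf_eq (MulAut.conj y)]
    exact orderOf_dvd_natCard (⟨_, hy⟩ : V) |> fun e => by rwa [← Subgroup.orderOf_coe] at e

theorem cover_fpf {U : Subgroup (Cfsg.Sz F m)} (hU : IsTorus U) : cover U ⊆ {g | Fpf g} := by
  rintro g ⟨g1, x, hx⟩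
  have h := A.fpf_conj (A.torus_fpf hU hx (fun e => g1 (conj_eq_one_iff.1 e))) x⁻¹
  simpa [mul_assoc] using h

theorem exists_torus {l : ℕ} (hl : l.Prime) (h : l ∣ Fintype.card F ^ 2 + 1) :
    ∃ U : Subgroup (Cfsg.Sz F m), IsTorus U ∧ l ∣ Nat.card U := by
  haveI : Fact l.Prime := ⟨hl⟩
  obtain ⟨y, hy⟩ := exists_prime_orderOf_dvd_card' (G := Cfsg.Sz F m) l
    (by rw [A.card_G]; exact (h.mul_left _).mul_right _)
  refine ⟨_, ⟨l, y, hl, h, hy, rfl⟩, ?_⟩
  have := orderOf_dvd_natCard (⟨y, Subgroup.mem_centralizer_singleton_iff.2 rfl⟩ :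
    Subgroup.centralizer ({y} : Set (Cfsg.Sz F m)))
  rwa [← Subgroup.orderOf_coe, hy] at this

theorem tori : ∃ U V : Subgroup (Cfsg.Sz F m), IsTorus U ∧ IsTorus V ∧
    Nat.card U = 2 ^ (2 * m + 1) + 2 ^ (m + 1) + 1 ∧ Nat.card V = 2 ^ (2 * m + 1) - 2 ^ (m + 1) + 1 ∧
    Nat.card (Subgroup.normalizer (U : Set (Cfsg.Sz F m))) = 4 * Nat.card U ∧
    Nat.card (Subgroup.normalizer (V : Set (Cfsg.Sz F m))) = 4 * Nat.card V ∧
    Nat.Coprime (Nat.card U) (Nat.card V) ∧
    ∀ W : Subgroup (Cfsg.Sz F m), IsTorus W → ∃ x : Cfsg.Sz F m, W = U.map (MulAut.conj x).toMonoidHom ∨ W = V.map (MulAut.conj x).toMonoidHom := by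
  set q := Fintype.card F with hq
  set g := Nat.card (Cfsg.Sz F m) with hgdef
  set F0 := {x : Cfsg.Sz F m | Fpf x}.ncard with hF0
  have hq8 := A.q_facts.1
  have hgval : g = q ^ 2 * (q ^ 2 + 1) * (q - 1) := A.card_G
  have hgpos : 0 < g := Nat.card_pos
  have hF0val : 2 * F0 = q ^ 3 * (q - 1) ^ 2 := A.card_fpf
  have hlt : 2 * F0 < g := by
    rw [hF0val, hgval, show q ^ 3 * (q - 1) ^ 2 = q ^ 2 * (q * (q - 1)) * (q - 1) by ring]
    refine Nat.mul_lt_mul_of_pos_right (Nat.mul_lt_mul_of_pos_left ?_ (by positivity)) (by omega)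
    have : q * (q - 1) ≤ q * q := Nat.mul_le_mul_left _ (Nat.sub_le _ _)
    rw [sq]; omega
  have hF0small : 5 * F0 < 3 * g := by omega
  -- equation and lower bound for one class
  have hterm : ∀ W : Subgroup (Cfsg.Sz F m), IsTorus W → ∃ n, n ∣ 4 ∧
      Nat.card (Subgroup.normalizer (W : Set (Cfsg.Sz F m))) = n * Nat.card W ∧
      (cover W).ncard * n * Nat.card W = g * (Nat.card W - 1) ∧ 4 * g ≤ 5 * n * (cover W).ncard := by
    intro W hW
    obtain ⟨-, n, hn, hN⟩ := A.torus_singer hW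
    have hc := A.torus_cover hW
    rw [hN, ← mul_assoc] at hc
    refine ⟨n, hn, hN, hc, ?_⟩
    have h5 := A.torus_ge hW
    refine Nat.le_of_mul_le_mul_right (c := Nat.card W) ?_ (by omega)
    rw [show 5 * n * (cover W).ncard * Nat.card W = 5 * ((cover W).ncard * n * Nat.card W) by ring, hc]
    have : 4 * Nat.card W ≤ 5 * (Nat.card W - 1) := by omega
    calc 4 * g * Nat.card W = g * (4 * Nat.card W) := by ring
      _ ≤ g * (5 * (Nat.card W - 1)) := Nat.mul_le_mul_left _ this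
      _ = 5 * (g * (Nat.card W - 1)) := by ring
  have hsame : ∀ W W' : Subgroup (Cfsg.Sz F m), IsTorus W → IsTorus W' → ¬Nat.Coprime (Nat.card W) (Nat.card W') →
      ∃ x : Cfsg.Sz F m, W' = W.map (MulAut.conj x).toMonoidHom := fun W W' hW hW' h => by
    obtain ⟨l, hl, h1, h2⟩ := Nat.Prime.not_coprime_iff_dvd.1 h
    exact A.torus_conj hW hW' hl h1 h2
  have hN1 : q ^ 2 + 1 ≠ 1 := by
    have : 0 < q ^ 2 := by positivity
    omega
  obtain ⟨l, hl, hlN⟩ := Nat.exists_prime_and_dvd hN1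
  obtain ⟨U, hU, hlU⟩ := A.exists_torus hl hlN
  obtain ⟨n1, hn1, hN1', he1, hb1⟩ := hterm U hU
  obtain ⟨d, hd⟩ := A.torus_dvd hU
  have hhallU := A.torus_hall hU
  rw [hd, Nat.mul_div_cancel_left _ Nat.card_pos] at hhallU
  have hn4 : ∀ n, n ∣ 4 → n = 1 ∨ n = 2 ∨ n = 4 := fun n h => by
    have := Nat.le_of_dvd (by norm_num) h
    interval_cases n <;> simp_all
  by_cases hd1 : d = 1
  · -- a single class is impossible
    exfalso
    rw [hd1, mul_one] at hd
    have hall : cover U = {x : Cfsg.Sz F m | Fpf x} := by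
      refine subset_antisymm (A.cover_fpf hU) fun x hx => ?_
      obtain ⟨W, hW, hxW⟩ := A.torus_mem hx
      obtain ⟨y, hy, hy1⟩ := A.torus_nontriv hW
      obtain ⟨p, hp, hpW⟩ := Nat.exists_prime_and_dvd (show Nat.card W ≠ 1 by have := A.torus_ge hW; omega)
      obtain ⟨z, rfl⟩ := A.torus_conj hU hW hp (hd ▸ hpW.trans (A.torus_dvd hW)) hpW
      refine ⟨fun e => hx (inf F m) (by rw [e, one_smul]), z⁻¹, ?_⟩
      rw [Subgroup.mem_map_equiv] at hxW
      simpa [mul_assoc] using hxW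
    rw [hall, ← hF0, ← hd, hgval] at he1
    rw [Nat.add_sub_cancel] at he1
    have h3 : q ^ 3 * (q - 1) ^ 2 * n1 * (q ^ 2 + 1) = 2 * (q ^ 2 * (q ^ 2 + 1) * (q - 1) * q ^ 2) := by
      rw [← hF0val, ← he1]; ring
    have h4 : q * ((q - 1) * n1) = q * (2 * q) := by
      refine Nat.eq_of_mul_eq_mul_left (show 0 < q ^ 2 * (q - 1) * (q ^ 2 + 1) by
        have : 0 < q - 1 := by omega
        positivity) ?_
      linarith
    have h5 : (q - 1) * n1 = 2 * q := Nat.eq_of_mul_eq_mul_left (by omega) h4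
    rcases hn4 n1 hn1 with rfl | rfl | rfl <;> omega
  obtain ⟨l2, hl2, hl2d⟩ := Nat.exists_prime_and_dvd hd1
  obtain ⟨V, hV, hl2V⟩ := A.exists_torus hl2 (hd ▸ hl2d.mul_left _)
  have hcop : Nat.Coprime (Nat.card U) (Nat.card V) := by
    by_contra h
    obtain ⟨x, rfl⟩ := hsame U V hU hV h
    rw [Subgroup.card_map_of_injective (MulAut.conj x).injective] at hl2V
    exact hl2.ne_one (Nat.eq_one_of_dvd_coprimes hhallU hl2V hl2d)
  obtain ⟨n2, hn2, hN2', he2, hb2⟩ := hterm V hV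
  have hUV : Nat.card U * Nat.card V ∣ q ^ 2 + 1 := hcop.mul_dvd_of_dvd_of_dvd (A.torus_dvd hU) (A.torus_dvd hV)
  obtain ⟨e, he⟩ := hUV
  have hsum2 : (cover U).ncard + (cover V).ncard ≤ F0 := by
    rw [← Set.ncard_union_eq (A.cover_disjoint hU hV hcop) (Set.toFinite _) (Set.toFinite _)]
    exact Set.ncard_le_ncard (Set.union_subset (A.cover_fpf hU) (A.cover_fpf hV)) (Set.toFinite _)
  have hmul : ∀ {n : ℕ} {s : ℕ}, n ≤ 4 → 4 * g ≤ 5 * n * s → g ≤ 5 * s := fun {n s} hn h => by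
    have : 5 * n * s ≤ 5 * 4 * s := Nat.mul_le_mul_right _ (Nat.mul_le_mul_left _ hn)
    linarith
  have he' : e = 1 := by
    by_contra h
    obtain ⟨l3, hl3, hl3e⟩ := Nat.exists_prime_and_dvd h
    obtain ⟨W, hW, hl3W⟩ := A.exists_torus hl3 (he ▸ hl3e.mul_left _)
    have hhallV := A.torus_hall hV
    have hUh : Nat.Coprime (Nat.card U) (Nat.card V * e) := by
      have : d = Nat.card V * e := Nat.eq_of_mul_eq_mul_left (Nat.card_pos (α := U)) (by rw [← hd, he, mul_assoc])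
      rwa [← this]
    have hVh : Nat.Coprime (Nat.card V) (Nat.card U * e) := by
      rwa [show (q ^ 2 + 1) / Nat.card V = Nat.card U * e by
        rw [he, show Nat.card U * Nat.card V * e = Nat.card V * (Nat.card U * e) by ring,
          Nat.mul_div_cancel_left _ Nat.card_pos]] at hhallV
    have hcU : Nat.Coprime (Nat.card U) (Nat.card W) := by
      by_contra h'
      obtain ⟨x, rfl⟩ := hsame U W hU hW h'
      rw [Subgroup.card_map_of_injective (MulAut.conj x).injective] at hl3W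
      exact hl3.ne_one (Nat.eq_one_of_dvd_coprimes hUh hl3W (hl3e.mul_left _))
    have hcV : Nat.Coprime (Nat.card V) (Nat.card W) := by
      by_contra h'
      obtain ⟨x, rfl⟩ := hsame V W hV hW h'
      rw [Subgroup.card_map_of_injective (MulAut.conj x).injective] at hl3W
      exact hl3.ne_one (Nat.eq_one_of_dvd_coprimes hVh hl3W (hl3e.mul_left _))
    obtain ⟨n3, hn3, -, -, hb3⟩ := hterm W hW
    have hsum3 : (cover U).ncard + (cover V).ncard + (cover W).ncard ≤ F0 := by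
      rw [← Set.ncard_union_eq (A.cover_disjoint hU hV hcop) (Set.toFinite _) (Set.toFinite _),
        ← Set.ncard_union_eq (Set.disjoint_union_left.2 ⟨A.cover_disjoint hU hW hcU, A.cover_disjoint hV hW hcV⟩)
          (Set.toFinite _) (Set.toFinite _)]
      exact Set.ncard_le_ncard (Set.union_subset (Set.union_subset (A.cover_fpf hU) (A.cover_fpf hV)) (A.cover_fpf hW))
        (Set.toFinite _)
    have b1 := hmul (Nat.le_of_dvd (by norm_num) hn1) hb1
    have b2 := hmul (Nat.le_of_dvd (by norm_num) hn2) hb2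
    have b3 := hmul (Nat.le_of_dvd (by norm_num) hn3) hb3
    omega
  rw [he', mul_one] at he
  have hclass : ∀ W : Subgroup (Cfsg.Sz F m), IsTorus W → ∃ x : Cfsg.Sz F m,
      W = U.map (MulAut.conj x).toMonoidHom ∨ W = V.map (MulAut.conj x).toMonoidHom := by
    intro W hW
    obtain ⟨p, hp, hpW⟩ := Nat.exists_prime_and_dvd (show Nat.card W ≠ 1 by have := A.torus_ge hW; omega)
    rcases (Nat.Prime.dvd_mul hp).1 (he ▸ hpW.trans (A.torus_dvd hW)) with h | h
    · obtain ⟨x, hx⟩ := A.torus_conj hU hW hp h hpW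
      exact ⟨x, Or.inl hx⟩
    · obtain ⟨x, hx⟩ := A.torus_conj hV hW hp h hpW
      exact ⟨x, Or.inr hx⟩
  have hunion : {x : Cfsg.Sz F m | Fpf x} = cover U ∪ cover V := by
    refine subset_antisymm (fun x hx => ?_) (Set.union_subset (A.cover_fpf hU) (A.cover_fpf hV))
    obtain ⟨W, hW, hxW⟩ := A.torus_mem hx
    have hx1 : x ≠ 1 := fun e => hx (inf F m) (by rw [e, one_smul])
    obtain ⟨z, rfl | rfl⟩ := hclass W hW
    · exact Or.inl ⟨hx1, z⁻¹, by rw [Subgroup.mem_map_equiv] at hxW; simpa [mul_assoc] using hxW⟩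
    · exact Or.inr ⟨hx1, z⁻¹, by rw [Subgroup.mem_map_equiv] at hxW; simpa [mul_assoc] using hxW⟩
  have hsum : (cover U).ncard + (cover V).ncard = F0 := by
    rw [← Set.ncard_union_eq (A.cover_disjoint hU hV hcop) (Set.toFinite _) (Set.toFinite _), ← hunion]
  obtain rfl : n1 = 4 := by
    rcases hn4 n1 hn1 with rfl | rfl | rfl
    · have := hmul (Nat.le_of_dvd (by norm_num) hn2) hb2; omega
    · have := hmul (Nat.le_of_dvd (by norm_num) hn2) hb2; omega
    · rfl
  obtain rfl : n2 = 4 := by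
    rcases hn4 n2 hn2 with rfl | rfl | rfl
    · have := hmul le_rfl hb1; omega
    · have := hmul le_rfl hb1; omega
    · rfl
  have hsumq : Nat.card U + Nat.card V = 2 * q + 2 := by
    have e1 : ((cover U).ncard : ℤ) * 4 * Nat.card U = g * ((Nat.card U : ℤ) - 1) := by
      rw [← Nat.cast_one, ← Nat.cast_sub Nat.card_pos]; exact_mod_cast he1
    have e2 : ((cover V).ncard : ℤ) * 4 * Nat.card V = g * ((Nat.card V : ℤ) - 1) := by
      rw [← Nat.cast_one, ← Nat.cast_sub Nat.card_pos]; exact_mod_cast he2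
    have e3 : ((cover U).ncard : ℤ) + (cover V).ncard = F0 := by exact_mod_cast hsum
    have hq1 : ((q - 1 : ℕ) : ℤ) = (q : ℤ) - 1 := by rw [Nat.cast_sub (by omega)]; norm_num
    have e4 : 2 * (F0 : ℤ) = (q : ℤ) ^ 3 * ((q : ℤ) - 1) ^ 2 := by
      rw [← hq1]; exact_mod_cast hF0val
    have e5 : (g : ℤ) = (q : ℤ) ^ 2 * ((q : ℤ) ^ 2 + 1) * ((q : ℤ) - 1) := by
      rw [← hq1]; exact_mod_cast hgval
    have e6 : (Nat.card U : ℤ) * Nat.card V = (q : ℤ) ^ 2 + 1 := by exact_mod_cast he.symm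
    have h8 : (8 : ℤ) ≤ q := by exact_mod_cast hq8
    have key : ((Nat.card U : ℤ) + Nat.card V) * ((q : ℤ) ^ 2 * ((q : ℤ) ^ 2 + 1) * ((q : ℤ) - 1)) =
        (2 * q + 2) * ((q : ℤ) ^ 2 * ((q : ℤ) ^ 2 + 1) * ((q : ℤ) - 1)) := by
      linear_combination (Nat.card V : ℤ) * e1 + (Nat.card U : ℤ) * e2 - 4 * ((Nat.card U : ℤ) * Nat.card V) * e3
        - 2 * ((Nat.card U : ℤ) * Nat.card V) * e4 + (2 * (Nat.card U : ℤ) * Nat.card V - Nat.card U - Nat.card V) * e5
        + (2 * ((q : ℤ) ^ 2 * ((q : ℤ) ^ 2 + 1) * ((q : ℤ) - 1)) - 2 * (q : ℤ) ^ 3 * ((q : ℤ) - 1) ^ 2) * e6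
    have hne : (q : ℤ) ^ 2 * ((q : ℤ) ^ 2 + 1) * ((q : ℤ) - 1) ≠ 0 := by
      have : (0 : ℤ) < (q : ℤ) - 1 := by omega
      positivity
    exact_mod_cast mul_right_cancel₀ hne key
  have hvals : (Nat.card U = 2 ^ (2 * m + 1) + 2 ^ (m + 1) + 1 ∧ Nat.card V = 2 ^ (2 * m + 1) - 2 ^ (m + 1) + 1) ∨
      (Nat.card V = 2 ^ (2 * m + 1) + 2 ^ (m + 1) + 1 ∧ Nat.card U = 2 ^ (2 * m + 1) - 2 ^ (m + 1) + 1) := by
    have hle : 2 ^ (m + 1) ≤ 2 ^ (2 * m + 1) := Nat.pow_le_pow_right two_pos (by omega)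
    have hsq : ((Nat.card U : ℤ) - (q + 1)) ^ 2 = ((2 ^ (m + 1) : ℕ) : ℤ) ^ 2 := by
      have e6 : (Nat.card U : ℤ) * Nat.card V = (q : ℤ) ^ 2 + 1 := by exact_mod_cast he.symm
      have e7 : (Nat.card U : ℤ) + Nat.card V = 2 * q + 2 := by exact_mod_cast hsumq
      have e8 : (q : ℤ) * 2 = ((2 ^ (m + 1) : ℕ) : ℤ) ^ 2 := by
        rw [hq, A.card]; push_cast; ring
      linear_combination (Nat.card U : ℤ) * e7 - e6 + e8
    rw [A.card] at hq
    rcases sq_eq_sq_iff_eq_or_eq_neg.1 hsq with h | h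
    · left; constructor <;> omega
    · right; constructor <;> omega
  rcases hvals with ⟨h1, h2⟩ | ⟨h1, h2⟩
  · exact ⟨U, V, hU, hV, h1, h2, hN1', hN2', hcop, hclass⟩
  · exact ⟨V, U, hV, hU, h1, h2, hN2', hN1', hcop.symm, fun W hW => (hclass W hW).imp fun x h => h.symm⟩

theorem torus_card {W : Subgroup (Cfsg.Sz F m)} (hW : IsTorus W) :
    Nat.card W = 2 ^ (2 * m + 1) + 2 ^ (m + 1) + 1 ∨ Nat.card W = 2 ^ (2 * m + 1) - 2 ^ (m + 1) + 1 := by
  obtain ⟨U, V, -, -, h1, h2, -, -, -, h⟩ := A.tori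
  obtain ⟨x, rfl | rfl⟩ := h W hW <;> rw [Subgroup.card_map_of_injective (MulAut.conj x).injective]
  · exact Or.inl h1
  · exact Or.inr h2

/-- pointwise stabiliser of two points is cyclic -/
theorem cyclic_of_two {K : Subgroup (Cfsg.Sz F m)} {a b : Cfsg.suzukiOvoid F m} (hab : a ≠ b)
    (h : ∀ g ∈ K, g • a = a ∧ g • b = b) : IsCyclic K := by
  obtain ⟨x, h1, h2⟩ := A.move_two hab
  have hle : K ≤ A.hHom.range.map (MulAut.conj x⁻¹).toMonoidHom := fun g hg => by
    obtain ⟨k, hk⟩ := A.fix_two_val (g := x * g * x⁻¹)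
      (by rw [mul_smul, mul_smul, inv_smul_eq_iff.2 h1.symm, (h g hg).1, h1])
      (by rw [mul_smul, mul_smul, inv_smul_eq_iff.2 h2.symm, (h g hg).2, h2])
    exact ⟨A.H k, ⟨k, rfl⟩, by simp [← hk, mul_assoc]⟩
  haveI : IsCyclic A.hHom.range := isCyclic_of_surjective A.hHom.rangeRestrict A.hHom.rangeRestrict_surjective
  haveI : IsCyclic ↥(A.hHom.range.map (MulAut.conj x⁻¹).toMonoidHom) :=
    isCyclic_of_surjective _ (A.hHom.range.equivMapOfInjective _ (MulAut.conj x⁻¹).injective).surjective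
  exact isCyclic_of_injective (Subgroup.inclusion hle) (Subgroup.inclusion_injective hle)

theorem sylow_odd_cyclic {l : ℕ} [Fact l.Prime] (hl2 : l ≠ 2) (P : Sylow l (Cfsg.Sz F m)) : IsCyclic P := by
  by_cases hN : l ∣ Fintype.card F ^ 2 + 1
  · exact (A.sylow_cyclic_N hN P).1
  have hl := (Fact.out : l.Prime)
  obtain ⟨a, ha⟩ := P.2.nonempty_fixed_point_of_prime_not_dvd_card (Cfsg.suzukiOvoid F m) (by rwa [card_ovoid])
  rcases subsingleton_or_nontrivial P with hs | hs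
  · exact isCyclic_of_subsingleton
  haveI := P.2.center_nontrivial
  obtain ⟨⟨z, hzc⟩, hz1⟩ := exists_ne (1 : Subgroup.center P)
  have hz : (z : Cfsg.Sz F m) ≠ 1 := fun e => hz1 (Subtype.ext (Subtype.ext e))
  have hodd : ∀ x : P, Odd (orderOf (x : Cfsg.Sz F m)) := fun x => by
    obtain ⟨k, hk⟩ := IsPGroup.iff_orderOf.1 P.2 x
    rw [Subgroup.orderOf_coe, hk]
    exact (hl.odd_of_ne_two hl2).pow
  obtain ⟨b, hb, hab⟩ : ∃ b : Cfsg.suzukiOvoid F m, (z : Cfsg.Sz F m) • b = b ∧ b ≠ a := by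
    rcases A.classify (z : Cfsg.Sz F m) with h | ⟨x, c, d, e⟩ | ⟨x, k, e⟩
    · exact absurd (ha z) (h a)
    · exfalso
      have h1 : orderOf (z : Cfsg.Sz F m) ∣ 2 ^ 2 := by
        rw [← MulEquiv.orderOf_eq (MulAut.conj x), MulAut.conj_apply, e]
        refine orderOf_dvd_of_pow_eq_one ?_
        exact A.T_pow4 c d
      obtain ⟨i, -, hi⟩ := (Nat.dvd_prime_pow Nat.prime_two).1 h1
      have h2 := hodd z
      rw [hi] at h2
      rcases Nat.eq_zero_or_pos i with rfl | hi0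
      · exact hz (orderOf_eq_one_iff.1 (by simpa using hi))
      · exact Nat.not_odd_iff_even.2 (Nat.even_pow.2 ⟨even_two, hi0.ne'⟩) h2
    · have e' : ∀ p : Cfsg.suzukiOvoid F m, A.H k • p = p → (z : Cfsg.Sz F m) • (x⁻¹ • p) = x⁻¹ • p := fun p hp => by
        rw [← e, mul_smul, mul_smul] at hp
        exact eq_inv_smul_iff.2 hp
      by_cases h1 : x⁻¹ • inf F m = a
      · exact ⟨x⁻¹ • pt m 0 0, e' _ (A.H_zero k), fun h2 => pt_ne_inf m 0 0 (MulAction.injective x⁻¹ (h2.trans h1.symm))⟩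
      · exact ⟨x⁻¹ • inf F m, e' _ (A.H_inf k), h1⟩
  refine A.cyclic_of_two hab.symm fun g hg => ⟨ha ⟨g, hg⟩, A.fix_of_comm hz ?_ (hodd ⟨g, hg⟩) hb⟩
  exact congrArg Subtype.val (Subgroup.mem_center_iff.1 hzc ⟨g, hg⟩)

theorem isCN : Cfsg.IsCNGroup (Cfsg.Sz F m) := by
  intro g hg
  rcases A.classify g with h | ⟨x, a, b, e⟩ | ⟨x, k, e⟩
  · obtain ⟨U, hU, hgU⟩ := A.torus_mem h
    rw [A.torus_cent hU hgU hg]
    haveI := (A.torus_singer hU).1
    letI : CommGroup U := IsCyclic.commGroup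
    infer_instance
  · have hT : A.T a b ≠ 1 := fun h1 => hg (conj_eq_one_iff.1 (e.trans h1))
    -- every element commuting with a translation is a translation
    have key : ∀ y : Cfsg.Sz F m, y * A.T a b = A.T a b * y → y ∈ A.U := fun y hy => by
      have hO := A.fixes_of_conj (x := y) (A.T_mem_U a b) hT
        (by rw [hy, mul_inv_cancel_right]; exact A.T_mem_U a b)
      obtain ⟨c, d, k, rfl⟩ := A.stab_inf hO
      by_cases hk : k = 1
      · rw [hk, A.H_one, mul_one]; exact A.T_mem_U c d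
      exfalso
      rcases A.classify (A.T c d * A.H k) with h | ⟨w, u, v, ew⟩ | ⟨w, j, ew⟩
      · exact h _ hO
      · have h4 : (A.T c d * A.H k) ^ 4 = 1 := by
          rw [← MulEquiv.map_eq_one_iff (MulAut.conj w), map_pow, MulAut.conj_apply, ew]
          exact A.T_pow4 u v
        have h4' : ((A.T c d * A.H k) ^ 4) • pt m (0 : F) 1 = pt m 0 1 := by rw [h4, one_smul]
        have hfi : ∀ n : ℕ, ∃ s t, (A.T c d * A.H k) ^ n = A.T s t * A.H (k ^ n) := fun n => by
          induction n with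
          | zero => exact ⟨0, 0, by rw [pow_zero, pow_zero, A.T_zero, A.H_one, one_mul]⟩
          | succ n ih =>
            obtain ⟨s, t, hst⟩ := ih
            obtain ⟨s', t', hst'⟩ := A.mem_U.1 (A.conj_U (A.H_inf (k ^ n)) (A.T_mem_U c d))
            refine ⟨s' + s, t' + t + sg m s * s', ?_⟩
            rw [pow_succ, hst, ← A.T_mul, show A.T s t * A.H (k ^ n) * (A.T c d * A.H k) =
              A.T s t * (A.H (k ^ n) * A.T c d * (A.H (k ^ n))⁻¹) * (A.H (k ^ n) * A.H k) by group, hst',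
              A.H_mul, ← pow_succ]
        obtain ⟨s, t, hst⟩ := hfi 4
        rw [hst] at h4
        have hs := congrArg (· • pt m (0 : F) 0) h4
        simp only [mul_smul, A.H_zero, A.T_zero_pt, one_smul] at hs
        obtain ⟨rfl, rfl⟩ := pt_inj hs
        rw [A.T_zero, one_mul, ← A.H_one] at h4
        have hk4 := congrArg Units.val (A.H_inj h4)
        haveI := A.char2
        simp only [Units.val_pow_eq_pow_val, Units.val_one] at hk4
        refine hk (Units.ext (CharTwo.sq_injective (CharTwo.sq_injective ?_)))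
        show ((k : F) ^ 2) ^ 2 = ((1 : F) ^ 2) ^ 2
        rw [← pow_mul, hk4, one_pow, one_pow]
      · -- a second fixed point is preserved by the translation
        have hf : ∀ p : Cfsg.suzukiOvoid F m, A.H j • p = p → (A.T c d * A.H k) • (w⁻¹ • p) = w⁻¹ • p := fun p hp => by
          rw [← ew, mul_smul, mul_smul] at hp
          exact eq_inv_smul_iff.2 hp
        have hne : A.T c d * A.H k ≠ 1 := fun h1 => by
          have := congrArg (· • pt m (0 : F) 0) h1
          simp only [mul_smul, A.H_zero, A.T_zero_pt, one_smul] at this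
          obtain ⟨rfl, rfl⟩ := pt_inj this
          rw [A.T_zero, one_mul, ← A.H_one] at h1
          exact hk (A.H_inj h1)
        obtain ⟨p, hp, hpO⟩ : ∃ p : Cfsg.suzukiOvoid F m, (A.T c d * A.H k) • p = p ∧ p ≠ inf F m := by
          by_cases h1 : w⁻¹ • inf F m = inf F m
          · exact ⟨w⁻¹ • pt m 0 0, hf _ (A.H_zero j),
              fun h2 => pt_ne_inf m 0 0 (MulAction.injective w⁻¹ (h2.trans h1.symm))⟩
          · exact ⟨w⁻¹ • inf F m, hf _ (A.H_inf j), h1⟩
        have hp' : (A.T c d * A.H k) • (A.T a b • p) = A.T a b • p := by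
          rw [← mul_smul, hy, mul_smul, hp]
        have hTp : A.T a b • p = p := by
          by_contra h1
          exact hne (A.three_fix hpO.symm (Ne.symm h1)
            (fun h2 => hpO (MulAction.injective (A.T a b) ((A.T_inf a b).trans h2)).symm) hO hp hp')
        obtain ⟨X, Y, rfl⟩ := (cases_pt p).resolve_left hpO
        rw [A.T_pt] at hTp
        obtain ⟨eX, eY⟩ := pt_inj hTp
        have ha : a = 0 := by linear_combination eX
        subst ha
        rw [A.sg_zero] at eY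
        have hb : b = 0 := by linear_combination eY
        subst hb
        exact hT A.T_zero
    haveI : Fact (Nat.Prime 2) := ⟨Nat.prime_two⟩
    have hle : (Subgroup.centralizer ({g} : Set (Cfsg.Sz F m))).map (MulAut.conj x).toMonoidHom ≤ A.U := by
      rintro _ ⟨y, hy, rfl⟩
      refine key _ ?_
      have := congrArg (MulAut.conj x) (Subgroup.mem_centralizer_singleton_iff.1 hy)
      rw [map_mul, map_mul, MulAut.conj_apply x g, e] at this
      exact this
    have hp : IsPGroup 2 ↥((Subgroup.centralizer ({g} : Set (Cfsg.Sz F m))).map (MulAut.conj x).toMonoidHom) :=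
      A.sylU.2.to_le (le_of_le_of_eq hle A.sylU_coe.symm)
    exact (Group.isNilpotent_congr ((Subgroup.centralizer ({g} : Set (Cfsg.Sz F m))).equivMapOfInjective _
      (MulAut.conj x).injective)).2 hp.isNilpotent
  · have hk1 : k ≠ 1 := fun h1 => hg (conj_eq_one_iff.1 (by rw [e, h1, A.H_one]))
    have hHk : A.H k ≠ 1 := fun h1 => hk1 (A.H_inj (h1.trans A.H_one.symm))
    have key : ∀ y : Cfsg.Sz F m, y * A.H k = A.H k * y → ∃ j, y = A.H j := fun y hy => by
      have hfix : ∀ p : Cfsg.suzukiOvoid F m, A.H k • p = p → A.H k • (y • p) = y • p := fun p hp => by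
        rw [← mul_smul, ← hy, mul_smul, hp]
      have hcases : ∀ p : Cfsg.suzukiOvoid F m, A.H k • p = p → p = inf F m ∨ p = pt m 0 0 := fun p hp => by
        by_contra h
        push_neg at h
        exact hHk (A.three_fix (pt_ne_inf m (0 : F) 0).symm h.2.symm h.1.symm (A.H_inf k) (A.H_zero k) hp)
      rcases hcases _ (hfix _ (A.H_inf k)) with h1 | h1
      · rcases hcases _ (hfix _ (A.H_zero k)) with h2 | h2
        · exact absurd (MulAction.injective y (h2.trans h1.symm)) (pt_ne_inf m 0 0)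
        · exact A.fix_two_val h1 h2
      · exfalso
        rcases hcases _ (hfix _ (A.H_zero k)) with h2 | h2
        · obtain ⟨j, hj⟩ := A.fix_two_val (g := A.W * y) (by rw [mul_smul, h1, A.W_zero]) (by rw [mul_smul, h2, A.W_inf])
          have hy' : y = A.W * A.H j := by rw [← hj, ← mul_assoc, A.W_sq, one_mul]
          subst hy'
          have hWk : A.W * A.H k = A.H k * A.W := mul_right_cancel (b := A.H j) (by
            rw [mul_assoc A.W (A.H k), A.H_mul, mul_comm k j, ← A.H_mul, ← mul_assoc, hy, mul_assoc (A.H k)])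
          have hinv : A.H k⁻¹ = A.H k := by rw [← A.W_conj, hWk, mul_assoc, A.W_sq, mul_one]
          haveI := A.char2
          refine hk1 (Units.ext (CharTwo.sq_injective ?_))
          show (k : F) ^ 2 = (1 : F) ^ 2
          have := A.H_inj hinv
          rw [inv_eq_iff_mul_eq_one] at this
          rw [sq, one_pow, ← Units.val_mul, this, Units.val_one]
        · exact pt_ne_inf m 0 0 (MulAction.injective y (h2.trans h1.symm))
    haveI : IsCyclic (Subgroup.centralizer ({g} : Set (Cfsg.Sz F m))) := by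
      refine A.cyclic_of_two (a := x⁻¹ • inf F m) (b := x⁻¹ • pt m 0 0)
        (fun h => pt_ne_inf m 0 0 (MulAction.injective x⁻¹ h).symm) fun y hy => ?_
      obtain ⟨j, hj⟩ := key (x * y * x⁻¹) (by
        have := congrArg (MulAut.conj x) (Subgroup.mem_centralizer_singleton_iff.1 hy)
        rw [map_mul, map_mul, MulAut.conj_apply x g, e] at this
        exact this)
      constructor <;> rw [eq_inv_smul_iff, ← mul_smul, ← mul_smul, hj]
      · exact A.H_inf j
      · exact A.H_zero j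
    letI : CommGroup (Subgroup.centralizer ({g} : Set (Cfsg.Sz F m))) := IsCyclic.commGroup
    infer_instance

theorem tori_rows : ∀ k ∈ ({2 ^ (2 * m + 1) + 2 ^ (m + 1) + 1, 2 ^ (2 * m + 1) - 2 ^ (m + 1) + 1} : Set ℕ),
    ∃ U : Subgroup (Cfsg.Sz F m), IsCyclic U ∧ Nat.card U = k ∧
      (∀ u ∈ U, u ≠ 1 → Subgroup.centralizer {u} = U) ∧
      Nat.card (Subgroup.normalizer (U : Set (Cfsg.Sz F m))) = 4 * k := by
  obtain ⟨U, V, hU, hV, h1, h2, h3, h4, -, -⟩ := A.tori
  rintro k (rfl | rfl)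
  · exact ⟨U, (A.torus_singer hU).1, h1, fun u hu hu1 => A.torus_cent hU hu hu1, by rw [h3, h1]⟩
  · exact ⟨V, (A.torus_singer hV).1, h2, fun u hu hu1 => A.torus_cent hV hu hu1, by rw [h4, h2]⟩

theorem U_fixes {x : Cfsg.Sz F m} {g : Cfsg.Sz F m} (hg : g ∈ A.U.map (MulAut.conj x).toMonoidHom) (h1 : g ≠ 1)
    {p : Cfsg.suzukiOvoid F m} (hp : g • p = p) : p = x • inf F m := by
  obtain ⟨u, hu, rfl⟩ := hg
  obtain ⟨a, b, rfl⟩ := A.mem_U.1 hu
  rw [MulEquiv.coe_toMonoidHom, MulAut.conj_apply, mul_smul, mul_smul, ← eq_inv_smul_iff] at hp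
  rw [MulEquiv.coe_toMonoidHom, MulAut.conj_apply, Ne, conj_eq_one_iff] at h1
  rcases cases_pt (x⁻¹ • p) with h | ⟨X, Y, h⟩
  · rw [← h, smul_inv_smul]
  · exfalso
    rw [h, A.T_pt] at hp
    obtain ⟨eX, eY⟩ := pt_inj hp
    have ha : a = 0 := by linear_combination eX
    subst ha
    rw [A.sg_zero] at eY
    have hb : b = 0 := by linear_combination eY
    subst hb
    exact h1 A.T_zero

theorem partition (g : Cfsg.Sz F m) (hg : g ≠ 1) :
    ∃! U : Subgroup (Cfsg.Sz F m), ((∃ P : Sylow 2 (Cfsg.Sz F m), U = (P : Subgroup (Cfsg.Sz F m))) ∨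
      (IsCyclic U ∧ Nat.card U ∈ ({2 ^ (2 * m + 1) - 1, 2 ^ (2 * m + 1) + 2 ^ (m + 1) + 1,
        2 ^ (2 * m + 1) - 2 ^ (m + 1) + 1} : Set ℕ))) ∧ g ∈ U := by
  obtain ⟨Up, Um, hUp, hUm, hp, hm', -, -, hcop, -⟩ := A.tori
  have hcardH : Nat.card A.hHom.range = 2 ^ (2 * m + 1) - 1 := by
    rw [← Nat.card_congr (MonoidHom.ofInjective (fun a b h => A.H_inj h : Function.Injective A.hHom)).toEquiv,
      Nat.card_units, Nat.card_eq_fintype_card, A.card]
  -- the cyclic candidates: tori and conjugates of the diagonal subgroup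
  have hcyc : ∀ U : Subgroup (Cfsg.Sz F m), IsCyclic U → Nat.card U ∈ ({2 ^ (2 * m + 1) - 1,
      2 ^ (2 * m + 1) + 2 ^ (m + 1) + 1, 2 ^ (2 * m + 1) - 2 ^ (m + 1) + 1} : Set ℕ) →
      IsTorus U ∨ ∃ x, U = A.hHom.range.map (MulAut.conj x).toMonoidHom := by
    intro U hU hc
    obtain ⟨u, hu⟩ := hU.exists_generator
    have hou : orderOf (u : Cfsg.Sz F m) = Nat.card U := by
      rw [Subgroup.orderOf_coe, orderOf_eq_card_of_forall_mem_zpowers hu]
    have h8 := A.q_facts.1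
    rw [A.card] at h8
    have hle : 2 ^ (m + 1) < 2 ^ (2 * m + 1) := Nat.pow_lt_pow_right (by norm_num) (by have := A.hm; omega)
    rcases hc with hc | hc
    · right
      rcases A.classify (u : Cfsg.Sz F m) with h | ⟨x, a, b, e⟩ | ⟨x, k, e⟩
      · exfalso
        obtain ⟨W, hW, huW⟩ := A.torus_mem h
        have h1 : orderOf (u : Cfsg.Sz F m) ∣ Fintype.card F ^ 2 + 1 := by
          refine Dvd.dvd.trans ?_ (A.torus_dvd hW)
          have := orderOf_dvd_natCard (⟨_, huW⟩ : W)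
          rwa [← Subgroup.orderOf_coe] at this
        have := Nat.eq_one_of_dvd_coprimes A.cop_sub h1 (by rw [hou, hc, A.card])
        rw [hou, hc] at this
        omega
      · exfalso
        have h1 : orderOf (u : Cfsg.Sz F m) ∣ 4 := by
          rw [← MulEquiv.orderOf_eq (MulAut.conj x), MulAut.conj_apply, e]
          refine orderOf_dvd_of_pow_eq_one ?_
          exact A.T_pow4 a b
        rw [hou, hc] at h1
        have := Nat.le_of_dvd (by norm_num) h1
        omega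
      · refine ⟨x⁻¹, Subgroup.eq_of_le_of_card_ge (fun z hz => ?_) ?_⟩
        · obtain ⟨i, hi⟩ := Subgroup.mem_zpowers_iff.1 (hu ⟨z, hz⟩)
          refine ⟨A.H (k ^ i), ⟨k ^ i, rfl⟩, ?_⟩
          have hi' : (u : Cfsg.Sz F m) ^ i = z := congrArg Subtype.val hi
          rw [show A.H (k ^ i) = A.H k ^ i from map_zpow A.hHom k i, map_zpow, ← e, ← hi']
          congr 1
          simp [mul_assoc]
        · rw [Subgroup.card_map_of_injective (MulAut.conj x⁻¹).injective, hcardH, hc]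
    · left
      have hdvdN : ∀ {n}, n ∈ ({2 ^ (2 * m + 1) + 2 ^ (m + 1) + 1, 2 ^ (2 * m + 1) - 2 ^ (m + 1) + 1} : Set ℕ) →
          n ∣ Fintype.card F ^ 2 + 1 ∧ n ≠ 1 := by
        rintro n (rfl | rfl)
        · exact ⟨hp ▸ A.torus_dvd hUp, by
            generalize 2 ^ (2 * m + 1) = Q at hle ⊢
            generalize 2 ^ (m + 1) = R at hle ⊢
            omega⟩
        · exact ⟨hm' ▸ A.torus_dvd hUm, by
            generalize 2 ^ (2 * m + 1) = Q at hle ⊢
            generalize 2 ^ (m + 1) = R at hle ⊢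
            omega⟩
      have hu1 : (u : Cfsg.Sz F m) ≠ 1 := fun e => by
        rw [e, orderOf_one] at hou
        exact (hdvdN hc).2 hou.symm
      obtain ⟨W, hW, huW⟩ := A.torus_mem (A.fpf_of_dvd hu1 (by rw [hou]; exact (hdvdN hc).1))
      have hleW : U ≤ W := fun z hz => by
        obtain ⟨i, hi⟩ := Subgroup.mem_zpowers_iff.1 (hu ⟨z, hz⟩)
        rw [← show (u : Cfsg.Sz F m) ^ i = z from congrArg Subtype.val hi]
        exact zpow_mem huW i
      have hd := Subgroup.card_dvd_of_le hleW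
      rw [hp, hm'] at hcop
      suffices Nat.card W ≤ Nat.card U by rwa [Subgroup.eq_of_le_of_card_ge hleW this]
      rcases A.torus_card hW with h | h <;> rcases hc with h' | h' <;>
        first
          | exact le_of_eq (h.trans h'.symm)
          | (exfalso; rw [h, h'] at hd
             first
              | exact (hdvdN (Set.mem_insert _ _)).2 (hcop.eq_one_of_dvd hd)
              | exact (hdvdN (Set.mem_insert_of_mem _ rfl)).2 (hcop.symm.eq_one_of_dvd hd))
  have hHfix : ∀ x, ∀ z ∈ A.hHom.range.map (MulAut.conj x).toMonoidHom,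
      z • (x • inf F m) = x • inf F m ∧ z • (x • pt m (0 : F) 0) = x • pt m 0 0 := by
    rintro x _ ⟨_, ⟨k, rfl⟩, rfl⟩
    simp only [MulEquiv.coe_toMonoidHom, MulAut.conj_apply, ← mul_smul, inv_mul_cancel_right]
    constructor <;> rw [mul_smul]
    · exact congrArg (x • ·) (A.H_inf k)
    · exact congrArg (x • ·) (A.H_zero k)
  have hcand : ∀ U : Subgroup (Cfsg.Sz F m), ((∃ P : Sylow 2 (Cfsg.Sz F m), U = (P : Subgroup (Cfsg.Sz F m))) ∨
      (IsCyclic U ∧ Nat.card U ∈ ({2 ^ (2 * m + 1) - 1, 2 ^ (2 * m + 1) + 2 ^ (m + 1) + 1,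
        2 ^ (2 * m + 1) - 2 ^ (m + 1) + 1} : Set ℕ))) → g ∈ U →
      (∃ x, U = A.U.map (MulAut.conj x).toMonoidHom ∧ ∀ p : Cfsg.suzukiOvoid F m, g • p = p → p = x • inf F m) ∨
      (IsTorus U ∧ Fpf g) ∨
      (∃ x, U = A.hHom.range.map (MulAut.conj x).toMonoidHom) := by
    rintro U (⟨P, rfl⟩ | ⟨h1, h2⟩) hgU
    · obtain ⟨x, hx⟩ := A.sylow_conj P
      exact Or.inl ⟨x, hx, fun p hp => A.U_fixes (hx ▸ hgU) hg hp⟩
    · rcases hcyc U h1 h2 with h | h
      · exact Or.inr (Or.inl ⟨h, A.torus_fpf h hgU hg⟩)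
      · exact Or.inr (Or.inr h)
  have huniq : ∀ U V : Subgroup (Cfsg.Sz F m), ((∃ P : Sylow 2 (Cfsg.Sz F m), U = (P : Subgroup (Cfsg.Sz F m))) ∨
      (IsCyclic U ∧ Nat.card U ∈ ({2 ^ (2 * m + 1) - 1, 2 ^ (2 * m + 1) + 2 ^ (m + 1) + 1,
        2 ^ (2 * m + 1) - 2 ^ (m + 1) + 1} : Set ℕ))) → g ∈ U →
      ((∃ P : Sylow 2 (Cfsg.Sz F m), V = (P : Subgroup (Cfsg.Sz F m))) ∨
      (IsCyclic V ∧ Nat.card V ∈ ({2 ^ (2 * m + 1) - 1, 2 ^ (2 * m + 1) + 2 ^ (m + 1) + 1,
        2 ^ (2 * m + 1) - 2 ^ (m + 1) + 1} : Set ℕ))) → g ∈ V → U = V := by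
    intro U V hU hgU hV hgV
    have hO : ∀ x, g ∈ A.U.map (MulAut.conj x).toMonoidHom → g • (x • inf F m) = x • inf F m := by
      rintro x ⟨u, hu, rfl⟩
      rw [MulEquiv.coe_toMonoidHom, MulAut.conj_apply, mul_smul, mul_smul, inv_smul_smul]
      exact congrArg (x • ·) (A.U_le_stab hu)
    have hne : ∀ x : Cfsg.Sz F m, x • inf F m ≠ x • pt m (0 : F) 0 :=
      fun x h => pt_ne_inf m (0 : F) 0 (MulAction.injective x h).symm
    have hUH : ∀ x y, g ∈ A.U.map (MulAut.conj x).toMonoidHom →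
        g ∈ A.hHom.range.map (MulAut.conj y).toMonoidHom → False := fun x y h1 h2 =>
      hne y ((A.U_fixes h1 hg (hHfix y g h2).1).trans (A.U_fixes h1 hg (hHfix y g h2).2).symm)
    rcases hcand U hU hgU with ⟨x, rfl, hx⟩ | ⟨hTU, hf⟩ | ⟨x, rfl⟩ <;>
      rcases hcand V hV hgV with ⟨y, rfl, hy⟩ | ⟨hTV, hf'⟩ | ⟨y, rfl⟩
    · have e : x • inf F m = y • inf F m := hy _ (hO x hgU)
      have hstab : (y⁻¹ * x) • inf F m = inf F m := by rw [mul_smul, e, inv_smul_smul]
      ext z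
      simp only [Subgroup.mem_map_equiv, MulAut.conj_symm_apply]
      constructor <;> intro hz
      · have := A.conj_U hstab hz
        simpa [mul_assoc] using this
      · have := A.conj_U (g := x⁻¹ * y) (by rw [mul_smul, ← e, inv_smul_smul]) hz
        simpa [mul_assoc] using this
    · exact absurd (hO x hgU) (hf' _)
    · exact (hUH x y hgU hgV).elim
    · exact absurd (hO y hgV) (hf _)
    · exact A.torus_eq hTU hTV hgU hgV hg
    · exact absurd (hHfix y g hgV).1 (hf _)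
    · exact (hUH y x hgV hgU).elim
    · exact absurd (hHfix x g hgU).1 (hf' _)
    · refine Subgroup.eq_of_le_of_card_ge (fun z hz => ?_) (by
        rw [Subgroup.card_map_of_injective (f := (MulAut.conj x).toMonoidHom) (MulAut.conj x).injective,
          Subgroup.card_map_of_injective (f := (MulAut.conj y).toMonoidHom) (MulAut.conj y).injective])
      have hz1 := hHfix x z hz
      have hfix : ∀ p : Cfsg.suzukiOvoid F m, g • p = p → p = x • inf F m ∨ p = x • pt m (0 : F) 0 := fun p hp => by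
        by_contra h
        push_neg at h
        exact hg (A.three_fix (hne x) h.2.symm h.1.symm (hHfix x g hgU).1 (hHfix x g hgU).2 hp)
      have hzfix : ∀ p : Cfsg.suzukiOvoid F m, g • p = p → z • p = p := fun p hp => by
        rcases hfix p hp with rfl | rfl
        · exact hz1.1
        · exact hz1.2
      obtain ⟨k, hk⟩ := A.fix_two_val (g := y⁻¹ * z * y)
        (by rw [mul_smul, mul_smul, hzfix _ (hHfix y g hgV).1, inv_smul_smul])
        (by rw [mul_smul, mul_smul, hzfix _ (hHfix y g hgV).2, inv_smul_smul])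
      exact ⟨A.H k, ⟨k, rfl⟩, by simp [← hk, mul_assoc]⟩
  rcases A.classify g with h | ⟨x, a, b, e⟩ | ⟨x, k, e⟩
  · obtain ⟨U, hU, hgU⟩ := A.torus_mem h
    have hmem : Nat.card U ∈ ({2 ^ (2 * m + 1) - 1, 2 ^ (2 * m + 1) + 2 ^ (m + 1) + 1,
        2 ^ (2 * m + 1) - 2 ^ (m + 1) + 1} : Set ℕ) := Set.mem_insert_of_mem _ (A.torus_card hU)
    exact ⟨U, ⟨Or.inr ⟨(A.torus_singer hU).1, hmem⟩, hgU⟩,
      fun V hV => huniq V U hV.1 hV.2 (Or.inr ⟨(A.torus_singer hU).1, hmem⟩) hgU⟩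
  · have hgU : g ∈ A.U.map (MulAut.conj x⁻¹).toMonoidHom := ⟨A.T a b, A.T_mem_U a b, by simp [← e, mul_assoc]⟩
    haveI : Fact (Nat.Prime 2) := ⟨Nat.prime_two⟩
    have hc : ∃ P : Sylow 2 (Cfsg.Sz F m), A.U.map (MulAut.conj x⁻¹).toMonoidHom = (P : Subgroup (Cfsg.Sz F m)) :=
      ⟨x⁻¹ • A.sylU, rfl⟩
    exact ⟨_, ⟨Or.inl hc, hgU⟩, fun V hV => huniq V _ hV.1 hV.2 (Or.inl hc) hgU⟩
  · have hgU : g ∈ A.hHom.range.map (MulAut.conj x⁻¹).toMonoidHom := ⟨A.H k, ⟨k, rfl⟩, by simp [← e, mul_assoc]⟩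
    haveI : IsCyclic A.hHom.range := isCyclic_of_surjective A.hHom.rangeRestrict A.hHom.rangeRestrict_surjective
    have hc : IsCyclic ↥(A.hHom.range.map (MulAut.conj x⁻¹).toMonoidHom) :=
      isCyclic_of_surjective _ (A.hHom.range.equivMapOfInjective _ (MulAut.conj x⁻¹).injective).surjective
    have hcard : Nat.card ↥(A.hHom.range.map (MulAut.conj x⁻¹).toMonoidHom) ∈ ({2 ^ (2 * m + 1) - 1,
        2 ^ (2 * m + 1) + 2 ^ (m + 1) + 1, 2 ^ (2 * m + 1) - 2 ^ (m + 1) + 1} : Set ℕ) :=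
      Or.inl (by rw [Subgroup.card_map_of_injective (MulAut.conj x⁻¹).injective, hcardH])
    exact ⟨_, ⟨Or.inr ⟨hc, hcard⟩, hgU⟩, fun V hV => huniq V _ hV.1 hV.2 (Or.inr ⟨hc, hcard⟩) hgU⟩

end Setup

end CfsgLib.Suz
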