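import Cfsg.Prelude.Def_LieExceptional
import Mathlib.GroupTheory.GroupAction.MultipleTransitivity

/-!
The Suzuki group on the Suzuki–Tits ovoid: translations, torus, the swap, and the two-point stabiliser.
-/

set_option autoImplicit false
set_option linter.unusedSectionVars false
set_option linter.style.haveILetI false

namespace CfsgLib.Suz

open Matrix

variable {F : Type*} [Field F]

/-- the twisting exponent map -/
def sg (m : ℕ) (x : F) : F := x ^ 2 ^ (m + 1)

/-- the ovoid function -/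
def fn (m : ℕ) (x y : F) : F := x * y + sg m x * x ^ 2 + sg m y

/-- coordinates of an affine ovoid point -/
def vP (m : ℕ) (x y : F) : Fin 4 → F := ![fn m x y, y, x, 1]

theorem vP_ne (m : ℕ) (x y : F) : vP m x y ≠ 0 := fun h => by
  simpa [vP] using congrFun h 3

theorem vP_def (m : ℕ) (x y : F) :
    vP m x y = ![x * y + x ^ (2 ^ (m + 1) + 2) + y ^ (2 ^ (m + 1)), y, x, 1] := by
  simp [vP, fn, sg, pow_add]

/-- the point at infinity -/
def inf (F : Type*) [Field F] (m : ℕ) : Cfsg.suzukiOvoid F m :=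
  ⟨Cfsg.suzukiPointInfinity F, ![1, 0, 0, 0], by simp, rfl, Or.inl rfl⟩

/-- an affine point -/
def pt (m : ℕ) (x y : F) : Cfsg.suzukiOvoid F m :=
  ⟨Projectivization.mk F (vP m x y) (vP_ne m x y), vP m x y, vP_ne m x y, rfl, Or.inr ⟨x, y, vP_def m x y⟩⟩

theorem pt_zero (m : ℕ) : (pt m (0 : F) 0 : Projectivization F (Fin 4 → F)) = Cfsg.suzukiPointZero F := by
  refine (Projectivization.mk_eq_mk_iff' F _ _ _ _).2 ⟨1, ?_⟩
  rw [one_smul]
  simp [vP, fn, sg, zero_pow]

theorem cases_pt {m : ℕ} (p : Cfsg.suzukiOvoid F m) : p = inf F m ∨ ∃ x y, p = pt m x y := by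
  obtain ⟨v, hv, e, h | ⟨x, y, h⟩⟩ := p.2
  · subst h; exact Or.inl (Subtype.ext e)
  · subst h
    refine Or.inr ⟨x, y, Subtype.ext (e.trans ?_)⟩
    exact (Projectivization.mk_eq_mk_iff' F _ _ _ _).2 ⟨1, by rw [one_smul, vP_def]⟩

theorem pt_ne_inf (m : ℕ) (x y : F) : pt m x y ≠ inf F m := by
  intro h
  obtain ⟨a, e⟩ := (Projectivization.mk_eq_mk_iff' F _ _ _ _).1 (congrArg Subtype.val h)
  simpa [vP] using congrFun e 3

theorem pt_inj {m : ℕ} {x y x' y' : F} (h : pt m x y = pt m x' y') : x = x' ∧ y = y' := by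
  obtain ⟨a, e⟩ := (Projectivization.mk_eq_mk_iff' F _ _ _ _).1 (congrArg Subtype.val h)
  have e3 : a = 1 := by simpa [vP] using congrFun e 3
  subst e3
  rw [one_smul] at e
  exact ⟨by simpa [vP] using (congrFun e 2).symm, by simpa [vP] using (congrFun e 1).symm⟩

theorem smul_mk' (g : Matrix.SpecialLinearGroup (Fin 4) F) {v w : Fin 4 → F} (hv : v ≠ 0) (hw : w ≠ 0) {c : F}
    (h : (g : Matrix (Fin 4) (Fin 4) F) *ᵥ v = c • w) :
    g • Projectivization.mk F v hv = Projectivization.mk F w hw := by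
  rw [Projectivization.matrixSpecialLinearGroup_smul_def, Projectivization.smul_mk,
    Projectivization.mk_eq_mk_iff']
  exact ⟨c, h.symm⟩

theorem mulVec_of_smul (g : Matrix.SpecialLinearGroup (Fin 4) F) {v w : Fin 4 → F} {hv : v ≠ 0} {hw : w ≠ 0}
    (h : g • Projectivization.mk F v hv = Projectivization.mk F w hw) :
    ∃ c : F, (g : Matrix (Fin 4) (Fin 4) F) *ᵥ v = c • w := by
  rw [Projectivization.matrixSpecialLinearGroup_smul_def, Projectivization.smul_mk,
    Projectivization.mk_eq_mk_iff'] at h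
  obtain ⟨c, hc⟩ := h
  exact ⟨c, hc.symm⟩

theorem card_ovoid [Fintype F] (m : ℕ) : Nat.card (Cfsg.suzukiOvoid F m) = Fintype.card F ^ 2 + 1 := by
  classical
  let f : Option (F × F) → Cfsg.suzukiOvoid F m := fun o => o.elim (inf F m) fun p => pt m p.1 p.2
  have hf : Function.Bijective f := by
    constructor
    · rintro (_ | ⟨x, y⟩) (_ | ⟨x', y'⟩) h
      · rfl
      · exact absurd h.symm (pt_ne_inf m x' y')
      · exact absurd h (pt_ne_inf m x y)
      · obtain ⟨rfl, rfl⟩ := pt_inj h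
        rfl
    · intro p
      rcases cases_pt p with rfl | ⟨x, y, rfl⟩
      · exact ⟨none, rfl⟩
      · exact ⟨some (x, y), rfl⟩
  rw [← Nat.card_eq_of_bijective f hf, Nat.card_eq_fintype_card, Fintype.card_option, Fintype.card_prod, sq]

/-- hypotheses -/
structure Setup (F : Type*) [Field F] [Fintype F] (m : ℕ) : Prop where
  hm : 1 ≤ m
  card : Fintype.card F = 2 ^ (2 * m + 1)

variable [Fintype F] {m : ℕ}

namespace Setup

variable (A : Setup F m)

include A

theorem char2 : CharP F 2 := by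
  refine CharTwo.of_one_ne_zero_of_two_eq_zero one_ne_zero ?_
  have := Nat.cast_card_eq_zero F
  rw [A.card] at this
  push_cast at this
  exact eq_zero_of_pow_eq_zero this

theorem two0 : (2 : F) = 0 := by haveI := A.char2; exact CharTwo.two_eq_zero

theorem sg_add (x y : F) : sg m (x + y) = sg m x + sg m y := by
  haveI := A.char2
  haveI : Fact (Nat.Prime 2) := ⟨Nat.prime_two⟩
  exact add_pow_char_pow x y 2 (m + 1)

theorem sg_mul (x y : F) : sg m (x * y) = sg m x * sg m y := mul_pow x y _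

theorem sg_sg (x : F) : sg m (sg m x) = x ^ 2 := by
  have h : x ^ 2 ^ (2 * m + 1) = x := by rw [← A.card]; exact FiniteField.pow_card x
  rw [sg, sg, ← pow_mul, ← pow_add, show m + 1 + (m + 1) = (2 * m + 1) + 1 by ring, pow_succ, pow_mul, h]

theorem sg_sq (x : F) : sg m (x ^ 2) = sg m x ^ 2 := by rw [sg, sg, ← pow_mul, ← pow_mul, mul_comm]

theorem sg_zero : sg m (0 : F) = 0 := zero_pow (by positivity)

theorem sg_one : sg m (1 : F) = 1 := one_pow _

theorem sg_eq_zero {x : F} (h : sg m x = 0) : x = 0 := eq_zero_of_pow_eq_zero h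

theorem sg_inj {x y : F} (h : sg m x = sg m y) : x = y := by
  haveI := A.char2
  have := congrArg (sg m) h
  rw [A.sg_sg, A.sg_sg] at this
  exact CharTwo.sq_injective this

theorem bounds : 2 < 2 ^ (m + 1) ∧ 2 ^ (m + 1) + 2 < Fintype.card F := by
  have h1 : 2 ^ 2 ≤ 2 ^ (m + 1) := Nat.pow_le_pow_right (by norm_num) (by have := A.hm; omega)
  have h2 : 2 * 2 ^ (m + 1) ≤ 2 ^ (2 * m + 1) := by
    rw [← pow_succ']; exact Nat.pow_le_pow_right (by norm_num) (by have := A.hm; omega)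
  rw [A.card]
  omega

theorem fn_add (a b x y : F) :
    fn m (x + a) (y + sg m a * x + b) = fn m x y + a * y + (b + sg m a * a) * x + fn m a b := by
  simp only [fn, A.sg_add, A.sg_mul, A.sg_sg]
  linear_combination (sg m a * x ^ 2 + x * a * sg m x + sg m a * a * x + a ^ 3 * sg m a * 0 +
    sg m x * a ^ 2) * A.two0

end Setup

/-- translations as matrices -/
def tMat (m : ℕ) (a b : F) : Matrix (Fin 4) (Fin 4) F :=
  !![1, a, b + sg m a * a, fn m a b; 0, 1, sg m a, b; 0, 0, 1, a; 0, 0, 0, 1]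

theorem det_tMat (m : ℕ) (a b : F) : (tMat m a b).det = 1 := by
  simp [tMat, Matrix.det_succ_row_zero, Fin.sum_univ_succ, Fin.succAbove]

/-- translations in the special linear group -/
def tSL (m : ℕ) (a b : F) : Matrix.SpecialLinearGroup (Fin 4) F := ⟨tMat m a b, det_tMat m a b⟩

/-- torus matrices -/
def hMat (m : ℕ) (k : Fˣ) : Matrix (Fin 4) (Fin 4) F :=
  Matrix.diagonal ![((k : F)) ^ (2 ^ m + 1), (k : F) ^ 2 ^ m, ((k : F) ^ 2 ^ m)⁻¹, ((k : F) ^ (2 ^ m + 1))⁻¹]

theorem det_hMat (m : ℕ) (k : Fˣ) : (hMat m k).det = 1 := by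
  have h1 : ((k : F)) ^ (2 ^ m + 1) ≠ 0 := pow_ne_zero _ k.ne_zero
  have h2 : ((k : F)) ^ 2 ^ m ≠ 0 := pow_ne_zero _ k.ne_zero
  simp [hMat, Matrix.det_diagonal, Fin.prod_univ_four]

/-- torus elements in the special linear group -/
def hSL (m : ℕ) (k : Fˣ) : Matrix.SpecialLinearGroup (Fin 4) F := ⟨hMat m k, det_hMat m k⟩

theorem det_wMat {F : Type*} [Field F] : (Cfsg.suzukiForm F).det = 1 := by
  simp [Cfsg.suzukiForm, Matrix.det_succ_row_zero, Fin.sum_univ_succ, Fin.succAbove]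
  norm_num

/-- the swap -/
def wSL (F : Type*) [Field F] : Matrix.SpecialLinearGroup (Fin 4) F := ⟨Cfsg.suzukiForm F, det_wMat⟩

namespace Setup

variable (A : Setup F m)

include A

theorem tSL_pt (a b x y : F) :
    tSL m a b • (pt m x y : Projectivization F (Fin 4 → F)) = (pt m (x + a) (y + sg m a * x + b) : Projectivization F (Fin 4 → F)) := by
  refine smul_mk' _ _ _ (c := 1) ?_
  rw [one_smul]
  ext i
  fin_cases i <;> simp [tSL, tMat, vP, A.fn_add, Matrix.mulVec, dotProduct, Fin.sum_univ_four]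

theorem tSL_inf (a b : F) :
    tSL m a b • (inf F m : Projectivization F (Fin 4 → F)) = (inf F m : Projectivization F (Fin 4 → F)) := by
  refine smul_mk' _ _ _ (c := 1) ?_
  rw [one_smul]
  ext i
  fin_cases i <;> simp [tSL, tMat, Matrix.mulVec, dotProduct, Fin.sum_univ_four]

theorem fn_scale (k : Fˣ) (x y : F) :
    fn m ((k : F) * x) (sg m (k : F) * (k : F) * y) = sg m (k : F) * (k : F) ^ 2 * fn m x y := by
  simp only [fn, A.sg_mul, A.sg_sg]
  ring

theorem hSL_pt (k : Fˣ) (x y : F) :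
    hSL m k • (pt m x y : Projectivization F (Fin 4 → F)) =
      (pt m ((k : F) * x) (sg m (k : F) * (k : F) * y) : Projectivization F (Fin 4 → F)) := by
  refine smul_mk' _ _ _ (c := ((k : F) ^ (2 ^ m + 1))⁻¹) ?_
  have hk := k.ne_zero
  have e : sg m (k : F) = ((k : F) ^ 2 ^ m) ^ 2 := by rw [sg, ← pow_mul, pow_succ]
  ext i
  fin_cases i <;> simp [hSL, hMat, vP, A.fn_scale, Matrix.mulVec_diagonal]
  · rw [e]; field_simp; ring
  · rw [e]; field_simp; ring
  · field_simp; ring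

theorem hSL_inf (k : Fˣ) :
    hSL m k • (inf F m : Projectivization F (Fin 4 → F)) = (inf F m : Projectivization F (Fin 4 → F)) := by
  refine smul_mk' _ _ _ (c := (k : F) ^ (2 ^ m + 1)) ?_
  ext i
  fin_cases i <;> simp [hSL, hMat, Matrix.mulVec_diagonal]

theorem key_id (x y : F) :
    x * y * sg m (fn m x y) + sg m y * y ^ 2 + sg m x * fn m x y ^ 2 = fn m x y * sg m (fn m x y) := by
  simp only [fn, A.sg_add, A.sg_mul, A.sg_sg, A.sg_sq]
  linear_combination (x ^ 2 * sg m x * y ^ 2 * 0 + x ^ 3 * y * sg m x ^ 2 * 0 +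
    sg m x * (x * y * (sg m x * x ^ 2) + x * y * sg m y + sg m x * x ^ 2 * sg m y) - sg m x ^ 2 * x ^ 2 * sg m y) * A.two0

theorem fn_eq_zero {x y : F} (h : fn m x y = 0) : x = 0 ∧ y = 0 := by
  have e := A.key_id x y
  rw [h, A.sg_zero] at e
  have hy : y = 0 := by
    by_contra hne
    have : sg m y * y ^ 2 = 0 := by linear_combination e
    rcases mul_eq_zero.1 this with h1 | h1
    · exact hne (A.sg_eq_zero h1)
    · exact hne (pow_eq_zero_iff (two_ne_zero : (2 : ℕ) ≠ 0) |>.1 h1)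
  subst hy
  refine ⟨?_, rfl⟩
  simp only [fn, A.sg_zero, mul_zero, zero_add, add_zero] at h
  rcases mul_eq_zero.1 h with h1 | h1
  · exact A.sg_eq_zero h1
  · exact pow_eq_zero_iff (two_ne_zero : (2 : ℕ) ≠ 0) |>.1 h1

theorem wSL_zero : wSL F • (pt m (0 : F) 0 : Projectivization F (Fin 4 → F)) = (inf F m : Projectivization F (Fin 4 → F)) := by
  refine smul_mk' _ _ _ (c := 1) ?_
  rw [one_smul]
  ext i
  fin_cases i <;> simp [wSL, Cfsg.suzukiForm, vP, fn, A.sg_zero, Matrix.mulVec, dotProduct, Fin.sum_univ_four]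

theorem wSL_inf : wSL F • (inf F m : Projectivization F (Fin 4 → F)) = (pt m (0 : F) 0 : Projectivization F (Fin 4 → F)) := by
  refine smul_mk' _ _ _ (c := 1) ?_
  rw [one_smul]
  ext i
  fin_cases i <;> simp [wSL, Cfsg.suzukiForm, vP, fn, A.sg_zero, Matrix.mulVec, dotProduct, Fin.sum_univ_four]

theorem wSL_pt {x y : F} (h : ¬(x = 0 ∧ y = 0)) :
    wSL F • (pt m x y : Projectivization F (Fin 4 → F)) =
      (pt m (y / fn m x y) (x / fn m x y) : Projectivization F (Fin 4 → F)) := by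
  have hf : fn m x y ≠ 0 := fun e => h (A.fn_eq_zero e)
  have hs : sg m (fn m x y) ≠ 0 := fun e => hf (A.sg_eq_zero e)
  refine smul_mk' _ _ _ (c := fn m x y) ?_
  have e : fn m x y * fn m (y / fn m x y) (x / fn m x y) = 1 := by
    have hd : ∀ u, sg m (u / fn m x y) = sg m u / sg m (fn m x y) := fun u => div_pow _ _ _
    rw [show fn m (y / fn m x y) (x / fn m x y) = (y / fn m x y) * (x / fn m x y) +
      sg m (y / fn m x y) * (y / fn m x y) ^ 2 + sg m (x / fn m x y) from rfl, hd, hd]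
    field_simp
    linear_combination A.key_id x y
  ext i
  fin_cases i <;>
    simp [wSL, Cfsg.suzukiForm, vP, Matrix.mulVec, dotProduct, Fin.sum_univ_four, e, mul_div_cancel₀ _ hf]

theorem mem_sz_of (g : Matrix.SpecialLinearGroup (Fin 4) F)
    (h : ∀ p : Cfsg.suzukiOvoid F m, g • (p : Projectivization F (Fin 4 → F)) ∈ Cfsg.suzukiOvoid F m) :
    g ∈ Cfsg.Sz F m :=
  (MulAction.mem_stabilizer_set' (Set.toFinite _)).2 fun b hb => h ⟨b, hb⟩

theorem tSL_mem (a b : F) : tSL m a b ∈ Cfsg.Sz F m := A.mem_sz_of _ fun p => by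
  rcases cases_pt p with rfl | ⟨x, y, rfl⟩
  · rw [A.tSL_inf]; exact (inf F m).2
  · rw [A.tSL_pt]; exact (pt m _ _).2

theorem hSL_mem (k : Fˣ) : hSL m k ∈ Cfsg.Sz F m := A.mem_sz_of _ fun p => by
  rcases cases_pt p with rfl | ⟨x, y, rfl⟩
  · rw [A.hSL_inf]; exact (inf F m).2
  · rw [A.hSL_pt]; exact (pt m _ _).2

theorem wSL_mem : wSL F ∈ Cfsg.Sz F m := A.mem_sz_of _ fun p => by
  rcases cases_pt p with rfl | ⟨x, y, rfl⟩
  · rw [A.wSL_inf]; exact (pt m _ _).2
  · by_cases h : x = 0 ∧ y = 0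
    · obtain ⟨rfl, rfl⟩ := h
      rw [A.wSL_zero]; exact (inf F m).2
    · rw [A.wSL_pt h]; exact (pt m _ _).2

end Setup

end CfsgLib.Suz
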